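import Mathlib

/-!
The exponents `1 - 2 ^ s` separate the Frobenius orbits of an element of almost full order.
-/

set_option autoImplicit false
set_option linter.all false

namespace Cfsg.Agent.Components.SuzukiTwo

theorem two_pow_sum {A B C D : ℕ} (hAB : A ≤ B) (hCD : C ≤ D) (h : 2 ^ A + 2 ^ B = 2 ^ C + 2 ^ D) :
    A = C ∧ B = D := by
  have hB : B = D := by
    rcases Nat.lt_trichotomy B D with hlt | rfl | hlt
    · exfalso
      have h1 : 2 ^ A ≤ 2 ^ B := Nat.pow_le_pow_right (by norm_num) hAB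
      have h2 : 2 ^ (B + 1) ≤ 2 ^ D := Nat.pow_le_pow_right (by norm_num) hlt
      have h3 : 0 < 2 ^ C := Nat.pow_pos (by norm_num)
      rw [pow_succ] at h2
      omega
    · rfl
    · exfalso
      have h1 : 2 ^ C ≤ 2 ^ D := Nat.pow_le_pow_right (by norm_num) hCD
      have h2 : 2 ^ (D + 1) ≤ 2 ^ B := Nat.pow_le_pow_right (by norm_num) hlt
      have h3 : 0 < 2 ^ A := Nat.pow_pos (by norm_num)
      rw [pow_succ] at h2
      omega
  subst hB
  exact ⟨Nat.pow_right_injective le_rfl (Nat.add_right_cancel h), rfl⟩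

theorem two_pow_sum' {A B C D : ℕ} (h : 2 ^ A + 2 ^ B = 2 ^ C + 2 ^ D) :
    (A = C ∧ B = D) ∨ (A = D ∧ B = C) := by
  rcases le_total A B with h1 | h1 <;> rcases le_total C D with h2 | h2
  · exact Or.inl (two_pow_sum h1 h2 h)
  · exact Or.inr (two_pow_sum h1 h2 (by omega))
  · obtain ⟨a, b⟩ := two_pow_sum h1 h2 (show 2 ^ B + 2 ^ A = 2 ^ C + 2 ^ D by omega)
    exact Or.inr ⟨b, a⟩
  · obtain ⟨a, b⟩ := two_pow_sum h1 h2 (show 2 ^ B + 2 ^ A = 2 ^ D + 2 ^ C by omega)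
    exact Or.inl ⟨b, a⟩

theorem exists_rotation {n : ℕ} (hn : 0 < n) (x : Fin 4 → ℕ) (hx : ∀ i, x i < n) :
    ∃ r, r < n ∧ ∀ i, (x i + r) % n < n - (n - 1) / 4 := by
  classical
  by_contra! hc
  set h := (n - 1) / 4
  let S : Fin 4 → Finset ℕ := fun i => (Finset.range n).filter fun r => n - h ≤ (x i + r) % n
  have hS : ∀ i, (S i).card ≤ h := by
    intro i
    have : (S i).card ≤ (Finset.Ico (n - h) n).card := by
      refine Finset.card_le_card_of_injOn (fun r => (x i + r) % n) ?_ ?_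
      · intro r hr
        simp only [S, Finset.coe_filter, Finset.mem_range, Set.mem_setOf_eq] at hr
        simp only [Finset.coe_Ico, Set.mem_Ico]
        exact ⟨hr.2, Nat.mod_lt _ hn⟩
      · intro r hr r' hr' e
        simp only [S, Finset.coe_filter, Finset.mem_range, Set.mem_setOf_eq] at hr hr'
        have hm : r ≡ r' [MOD n] := Nat.ModEq.add_left_cancel' (x i) e
        exact hm.eq_of_lt_of_lt hr.1 hr'.1
    rw [Nat.card_Ico] at this
    omega
  have hsub : Finset.range n ⊆ Finset.univ.biUnion S := by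
    intro r hr
    obtain ⟨i, hi⟩ := hc r (Finset.mem_range.mp hr)
    exact Finset.mem_biUnion.mpr ⟨i, Finset.mem_univ i, Finset.mem_filter.mpr ⟨hr, hi⟩⟩
  have h1 := (Finset.card_le_card hsub).trans (Finset.card_biUnion_le.trans
    (Finset.sum_le_sum (fun i _ => hS i)))
  simp only [Finset.card_range, Finset.sum_const, Finset.card_univ, Fintype.card_fin, smul_eq_mul] at h1
  omega

theorem lt_two_pow : ∀ n : ℕ, 24 ≤ n → n < 2 ^ ((n - 1) / 4) := by
  intro n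
  induction n using Nat.strong_induction_on with
  | _ n ih =>
    intro hn
    by_cases hlt : n < 28
    · interval_cases n <;> norm_num
    · have h := ih (n - 4) (by omega) (by omega)
      rw [show (n - 1) / 4 = (n - 4 - 1) / 4 + 1 by omega, pow_succ]
      omega

theorem small_table : ∀ n : Fin 24, 0 < (n : ℕ) → (n : ℕ) ≠ 6 →
    Nat.gcd n (2 ^ (n : ℕ) - 1) * (2 ^ ((n : ℕ) - ((n : ℕ) - 1) / 4) - 2) < 2 ^ (n : ℕ) - 1 := by
  decide +kernel

theorem six_table : ∀ a t c : Fin 6, (2 ^ (a : ℕ) + 2 ^ (t : ℕ)) % 21 = (2 ^ (c : ℕ) + 1) % 21 →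
    ((a : ℕ) + t) % 6 = c := by
  decide +kernel

theorem bound {n f : ℕ} (hn : 2 ≤ n) (h6 : n ≠ 6) (hfn : f ∣ n) (hfM : f ∣ 2 ^ n - 1) :
    f * (2 ^ (n - (n - 1) / 4) - 2) < 2 ^ n - 1 := by
  have hg : f ≤ Nat.gcd n (2 ^ n - 1) :=
    Nat.le_of_dvd (Nat.gcd_pos_of_pos_left _ (by omega)) (Nat.dvd_gcd hfn hfM)
  by_cases hlt : n < 24
  · exact lt_of_le_of_lt (Nat.mul_le_mul_right _ hg) (small_table ⟨n, hlt⟩ (by simp; omega) h6)
  · set h := (n - 1) / 4
    have hfle : f ≤ n := Nat.le_of_dvd (by omega) hfn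
    have hlt2 := lt_two_pow n (by omega)
    have e : 2 ^ h * 2 ^ (n - h) = 2 ^ n := by rw [← pow_add]; congr 1; omega
    have h2 : 2 ≤ 2 ^ (n - h) := by
      calc 2 = 2 ^ 1 := by norm_num
        _ ≤ _ := Nat.pow_le_pow_right (by norm_num) (by omega)
    have h3 : (f + 1) * 2 ^ (n - h) ≤ 2 ^ n := by
      rw [← e]
      exact Nat.mul_le_mul_right _ (Nat.succ_le_of_lt (lt_of_le_of_lt hfle hlt2))
    have h4 : f * (2 ^ (n - h) - 2) ≤ f * 2 ^ (n - h) := Nat.mul_le_mul_left f (by omega)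
    rw [add_mul, one_mul] at h3
    omega

theorem pow_two_pow_mod {M : Type*} [Monoid M] {l : M} {n : ℕ} (hn : l ^ 2 ^ n = l) (i : ℕ) :
    l ^ 2 ^ i = l ^ 2 ^ (i % n) := by
  have key : ∀ q : ℕ, ∀ r : ℕ, l ^ 2 ^ (q * n + r) = l ^ 2 ^ r := by
    intro q
    induction q with
    | zero => simp
    | succ q ih =>
      intro r
      rw [show (q + 1) * n + r = n + (q * n + r) by ring, pow_add, pow_mul, hn, ih]
  conv_lhs => rw [← Nat.div_add_mod i n, mul_comm n (i / n), key]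

/-- The separation lemma. -/
theorem sep {M : Type*} [CommGroup M] [Finite M] {l : M} {n f : ℕ} (hn : 2 ≤ n)
    (hm : orderOf l ∣ 2 ^ n - 1) (hfn : f ∣ n) (hdvd : 2 ^ n - 1 ∣ orderOf l * f)
    {a t c : ℕ} (ha : a < n) (ht : t < n) (hc : c < n)
    (h : l ^ (2 ^ a + 2 ^ t) = l ^ (2 ^ c + 1)) : (a + t) % n = c := by
  set g := Nat.gcd f (2 ^ n - 1)
  set m := orderOf l
  have hm0 : 0 < m := orderOf_pos l
  have hg : 2 ^ n - 1 ∣ m * g := by
    rw [← Nat.gcd_mul_left]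
    exact Nat.dvd_gcd hdvd (dvd_mul_left _ _)
  by_cases h6 : n = 6
  · subst h6
    have hg3 : g ∣ 3 := (Nat.dvd_gcd ((Nat.gcd_dvd_left f _).trans hfn) (Nat.gcd_dvd_right f _) :
      g ∣ Nat.gcd 6 63)
    have h21 : 21 ∣ m := by
      have h63 : 63 ∣ m * 3 := hg.trans (Nat.mul_dvd_mul_left m hg3)
      omega
    have hmod := ((pow_eq_pow_iff_modEq (x := l)).mp h).of_dvd h21
    exact six_table ⟨a, ha⟩ ⟨t, ht⟩ ⟨c, hc⟩ hmod
  have hln : l ^ 2 ^ n = l := by
    have h1 : l ^ (2 ^ n - 1) = 1 := orderOf_dvd_iff_pow_eq_one.mp hm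
    rw [show 2 ^ n = 2 ^ n - 1 + 1 by have := Nat.one_le_two_pow (n := n); omega, pow_succ, h1, one_mul]
  obtain ⟨r, -, hr⟩ := exists_rotation (show 0 < n by omega) ![a, t, c, 0]
    (by intro i; fin_cases i <;> simp <;> omega)
  set h' := (n - 1) / 4
  set A := (a + r) % n
  set B := (t + r) % n
  set C := (c + r) % n
  set D := (0 + r) % n
  have hA : A < n - h' := hr 0
  have hB : B < n - h' := hr 1
  have hC : C < n - h' := hr 2
  have hD : D < n - h' := hr 3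
  have heq : l ^ (2 ^ A + 2 ^ B) = l ^ (2 ^ C + 2 ^ D) := by
    rw [pow_add, pow_add l (2 ^ C), ← pow_two_pow_mod hln, ← pow_two_pow_mod hln, ← pow_two_pow_mod hln,
      ← pow_two_pow_mod hln, ← pow_add, ← pow_add, pow_add 2 a, pow_add 2 t, pow_add 2 c, pow_add 2 0,
      ← add_mul, ← add_mul, pow_mul, pow_mul, pow_zero, h]
  have hmod := (pow_eq_pow_iff_modEq (x := l)).mp heq
  have hb := bound hn h6 ((Nat.gcd_dvd_left f _).trans hfn) (Nat.gcd_dvd_right f _)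
  have hM : 2 ^ n - 1 ≤ m * g := Nat.le_of_dvd (Nat.mul_pos hm0 (Nat.gcd_pos_of_pos_right _ (by
    have := Nat.pow_le_pow_right (show 0 < 2 by norm_num) hn; omega))) hg
  have hbig : 2 ^ (n - h') - 2 < m := by
    by_contra hle
    have := Nat.mul_le_mul_left g (not_lt.mp hle)
    rw [mul_comm g m] at this
    exact absurd (hM.trans this) (not_le.mpr hb)
  have rng : ∀ x y : ℕ, x < n - h' → y < n - h' → 2 ≤ 2 ^ x + 2 ^ y ∧ 2 ^ x + 2 ^ y ≤ 2 ^ (n - h') := by
    intro x y hx hy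
    have h1 : 2 ^ (x + 1) ≤ 2 ^ (n - h') := Nat.pow_le_pow_right (by norm_num) hx
    have h2 : 2 ^ (y + 1) ≤ 2 ^ (n - h') := Nat.pow_le_pow_right (by norm_num) hy
    have h3 : 1 ≤ 2 ^ x := Nat.one_le_two_pow
    have h4 : 1 ≤ 2 ^ y := Nat.one_le_two_pow
    rw [pow_succ] at h1 h2
    omega
  obtain ⟨hl1, hu1⟩ := rng A B hA hB
  obtain ⟨hl2, hu2⟩ := rng C D hC hD
  have hsum : 2 ^ A + 2 ^ B = 2 ^ C + 2 ^ D := by
    rcases le_total (2 ^ A + 2 ^ B) (2 ^ C + 2 ^ D) with hle | hle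
    · have := Nat.eq_zero_of_dvd_of_lt ((Nat.modEq_iff_dvd' hle).mp hmod) (by omega)
      omega
    · have := Nat.eq_zero_of_dvd_of_lt ((Nat.modEq_iff_dvd' hle).mp hmod.symm) (by omega)
      omega
  have inj : ∀ x y : ℕ, x < n → y < n → (x + r) % n = (y + r) % n → x = y := fun x y hx hy e =>
    (Nat.ModEq.add_right_cancel' r (show x + r ≡ y + r [MOD n] from e)).eq_of_lt_of_lt hx hy
  rcases two_pow_sum' hsum with ⟨e1, e2⟩ | ⟨e1, e2⟩
  · rw [inj a c ha hc e1, inj t 0 ht (by omega) e2, add_zero, Nat.mod_eq_of_lt hc]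
  · rw [inj a 0 ha (by omega) e1, inj t c ht hc e2, zero_add, Nat.mod_eq_of_lt hc]

end Cfsg.Agent.Components.SuzukiTwo
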