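import Mathlib
import Cfsg.Agent.Lib.OddTransitive.Basic

/-!
A solvable group of odd order transitive on the non-zero vectors of an `F_2`-space identifies the
space with a finite field on which a generator of the Fitting subgroup acts by multiplication.
-/

set_option autoImplicit false
set_option linter.all false

namespace Cfsg.Agent.Components.SuzukiTwo

open MulAction

universe u

/-- `φ` acts on `W` as multiplication by an element of almost full order on a field of order `2 ^ n`. -/
def FieldLike {W : Type*} [Group W] (φ : W → W) (R : Type u) [Field R] : Prop :=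
  Finite R ∧ CharP R 2 ∧ ∃ (l : Rˣ) (e : W ≃ R) (n f : ℕ),
    (∀ a b, e (a * b) = e a + e b) ∧ (∀ a, e (φ a) = l * e a) ∧ Nat.card R = 2 ^ n ∧ 2 ≤ n ∧
      f ∣ n ∧ 2 ^ n - 1 ∣ orderOf l * f ∧ ∀ a, a < n → (l : R) ^ 2 ^ a = l → a = 0

theorem zmod_two_cases : ∀ d : ZMod 2, d = 0 ∨ d = 1 := by decide

variable {D : Type*} [Group D] [Finite D] {E : Type u} [AddCommGroup E] [Finite E] [Nontrivial E]
  [DistribMulAction D E] [FaithfulSMul D E]

theorem exists_field [Group.IsSolvable D] (hodd : Odd (Nat.card D)) (hE : ∀ x : E, 2 • x = 0)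
    (htrans : ∀ a b : E, a ≠ 0 → b ≠ 0 → ∃ d : D, d • a = b) (hbig : 4 ≤ Nat.card E) :
    ∃ (R : Type u) (_ : Field R) (ξ : D) (l : Rˣ) (e : E ≃+ R) (n f : ℕ),
      Finite R ∧ CharP R 2 ∧ (∀ a, e (ξ • a) = l * e a) ∧ Nat.card R = 2 ^ n ∧ 2 ≤ n ∧ f ∣ n ∧
        2 ^ n - 1 ∣ orderOf l * f ∧ ∀ a, a < n → (l : R) ^ 2 ^ a = l → a = 0 := by
  classical
  obtain ⟨hcyc, hsemi, -⟩ := OddTransitive.fitting_structure hodd Nat.prime_two hE htrans
  set F := Cfsg.fittingSubgroup D
  obtain ⟨⟨ξ, hξF⟩, hgen⟩ := hcyc.exists_generator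
  have hF : ∀ y ∈ F, ∃ k : ℤ, ξ ^ k = y := fun y hy => by
    obtain ⟨k, hk⟩ := hgen ⟨y, hy⟩
    exact ⟨k, congrArg Subtype.val hk⟩
  haveI : Fact (Nat.Prime 2) := ⟨Nat.prime_two⟩
  letI : Module (ZMod 2) E := AddCommGroup.zmodModule hE
  let L : D →* Module.End (ZMod 2) E :=
    { toFun := fun d => (DistribMulAction.toAddMonoidHom E d).toZModLinearMap 2
      map_one' := LinearMap.ext fun x => one_smul D x
      map_mul' := fun a b => LinearMap.ext fun x => mul_smul a b x }
  have L_apply : ∀ d x, L d x = d • x := fun _ _ => rfl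
  have L_inj : Function.Injective L := fun a b h => eq_of_smul_eq_smul (α := E) fun x => by
    rw [← L_apply, h, L_apply]
  set A : Subalgebra (ZMod 2) (Module.End (ZMod 2) E) := Algebra.adjoin (ZMod 2) {L ξ} with hA
  have hξA : L ξ ∈ A := Algebra.subset_adjoin rfl
  have hcomm : ∀ r ∈ A, ∀ s ∈ A, r * s = s * r := by
    have h1 : A ≤ Subalgebra.centralizer (ZMod 2) {L ξ} :=
      Algebra.adjoin_le (by rintro _ rfl; exact (Subalgebra.mem_centralizer_iff _).mpr (by rintro _ rfl; rfl))
    intro r hr s hs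
    have h2 : A ≤ Subalgebra.centralizer (ZMod 2) {r} :=
      Algebra.adjoin_le (by
        rintro _ rfl
        exact (Subalgebra.mem_centralizer_iff _).mpr (by
          rintro _ rfl
          exact ((Subalgebra.mem_centralizer_iff _).mp (h1 hr) _ rfl).symm))
    exact (Subalgebra.mem_centralizer_iff _).mp (h2 hs) r rfl
  -- conjugation by `D`
  have hconj : ∀ d : D, ∀ r ∈ A, L d * r * L d⁻¹ ∈ A := by
    intro d r hr
    have hdd : L d⁻¹ * L d = 1 := by rw [← map_mul, inv_mul_cancel, map_one]
    have hdd' : L d * L d⁻¹ = 1 := by rw [← map_mul, mul_inv_cancel, map_one]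
    induction hr using Algebra.adjoin_induction with
    | mem x hx =>
      cases hx
      rw [← map_mul, ← map_mul]
      obtain ⟨k, hk⟩ := hF _ (((inferInstance : F.Normal)).conj_mem ξ hξF d)
      rw [← hk]
      obtain ⟨j, hj⟩ : ∃ j : ℕ, ξ ^ j = ξ ^ k := by
        have := (isOfFinOrder_of_finite ξ).mem_powers_iff_mem_zpowers.mpr ⟨k, rfl⟩
        obtain ⟨j, hj⟩ := this
        exact ⟨j, hj⟩
      rw [← hj, map_pow]
      exact pow_mem hξA j
    | algebraMap c =>
      rw [← Algebra.commutes, mul_assoc, hdd', mul_one]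
      exact A.algebraMap_mem c
    | add x y _ _ hx hy => rw [mul_add, add_mul]; exact add_mem hx hy
    | mul x y _ _ hx hy =>
      rw [show L d * (x * y) * L d⁻¹ = L d * x * L d⁻¹ * (L d * y * L d⁻¹) by
        simp only [mul_assoc]; rw [← mul_assoc (L d⁻¹) (L d), hdd, one_mul]]
      exact mul_mem hx hy
  -- no zero divisors
  let Ker : Set (Module.End (ZMod 2) E) → Set E := fun S => {a | ∀ r ∈ S, r a = 0}
  let Cand : Set (Set E) := {B | (∃ S : Set (Module.End (ZMod 2) E), S ⊆ A ∧ B = Ker S) ∧ ∃ a ∈ B, a ≠ 0}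
  have inj : ∀ r ∈ A, ∀ a : E, a ≠ 0 → r a = 0 → r = 0 := by
    intro r hr a0 ha0 hra
    obtain ⟨B, hB, hBmin⟩ := (wellFounded_lt (α := Set E)).has_min Cand
      ⟨Ker {r}, ⟨{r}, Set.singleton_subset_iff.mpr hr, rfl⟩, a0, (by rintro _ rfl; exact hra), ha0⟩
    obtain ⟨⟨S, hSA, rfl⟩, b, hbB, hb0⟩ := hB
    -- every vector lies in a minimal kernel
    have cover : ∀ a : E, a ≠ 0 → ∃ T, T ⊆ (A : Set (Module.End (ZMod 2) E)) ∧ a ∈ Ker T ∧
        ∀ U, U ⊆ (A : Set (Module.End (ZMod 2) E)) → ∀ c ∈ Ker U, c ∈ Ker T → c ≠ 0 → Ker T ⊆ Ker U := by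
      intro a ha
      obtain ⟨d, rfl⟩ := htrans b a hb0 ha
      refine ⟨(fun x => L d * x * L d⁻¹) '' S, ?_, ?_, ?_⟩
      · rintro _ ⟨x, hx, rfl⟩; exact hconj d x (hSA hx)
      · rintro _ ⟨x, hx, rfl⟩
        simp only [Module.End.mul_apply, L_apply, inv_smul_smul, hbB x hx, smul_zero]
      · intro U hU c hcU hcT hc0 c' hc'
        set S' := S ∪ (fun x => L d⁻¹ * x * L d) '' U
        have hS'A : S' ⊆ A := by
          rintro x (hx | ⟨y, hy, rfl⟩)
          · exact hSA hx
          · have := hconj d⁻¹ y (hU hy); rwa [inv_inv] at this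
        have hsub : Ker S' ⊆ Ker S := fun e he x hx => he x (Or.inl hx)
        have back : ∀ e, e ∈ Ker ((fun x => L d * x * L d⁻¹) '' S) → d⁻¹ • e ∈ Ker S := by
          intro e he x hx
          have := he _ ⟨x, hx, rfl⟩
          simpa [Module.End.mul_apply, L_apply, smul_eq_zero_iff_eq] using this
        have hmemS' : d⁻¹ • c ∈ Ker S' := by
          rintro x (hx | ⟨y, hy, rfl⟩)
          · exact back c hcT x hx
          · simp [Module.End.mul_apply, L_apply, hcU y hy]
        have heq : Ker S' = Ker S := by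
          by_contra hne
          exact hBmin _ ⟨⟨S', hS'A, rfl⟩, _, hmemS', fun e => hc0 (by simpa using congrArg (d • ·) e)⟩
            (lt_of_le_of_ne hsub hne)
        have := back c' hc'
        rw [← heq] at this
        intro y hy
        have := this _ (Or.inr ⟨y, hy, rfl⟩)
        simpa [Module.End.mul_apply, L_apply, smul_eq_zero_iff_eq] using this
    by_contra hr0
    obtain ⟨c, hc⟩ : ∃ c, r c ≠ 0 := by
      by_contra! hall
      exact hr0 (LinearMap.ext hall)
    obtain ⟨T, hTA, haT, hTmin⟩ := cover a0 ha0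
    have hc0 : c ≠ 0 := fun e => hc (by rw [e, map_zero])
    have hTr : ∀ e ∈ Ker T, r e = 0 := fun e he =>
      hTmin {r} (Set.singleton_subset_iff.mpr hr) a0 (by rintro _ rfl; exact hra) haT ha0 he r rfl
    have hcT : c ∉ Ker T := fun e => hc (hTr c e)
    have hsum : a0 + c ≠ 0 := fun e => hc (by
      have : r (a0 + c) = 0 := by rw [e, map_zero]
      rwa [map_add, hra, zero_add] at this)
    obtain ⟨V, hVA, hcV, hVmin⟩ := cover c hc0
    obtain ⟨Z, hZA, hsZ, hZmin⟩ := cover (a0 + c) hsum
    have stable : ∀ U, U ⊆ (A : Set (Module.End (ZMod 2) E)) → ∀ s ∈ A, ∀ e ∈ Ker U, s e ∈ Ker U := by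
      intro U hU s hs e he x hx
      rw [← Module.End.mul_apply, hcomm x (hU hx) s hs, Module.End.mul_apply, he x hx, map_zero]
    have h1 : r c ∈ Ker V := stable V hVA r hr c hcV
    have h2 : r c ∈ Ker Z := by
      have := stable Z hZA r hr _ hsZ
      rwa [map_add, hra, zero_add] at this
    have hVZ := hVmin Z hZA _ h2 h1 hc
    have hcZ : c ∈ Ker Z := hVZ hcV
    have haZ : a0 ∈ Ker Z := fun x hx => by
      have := hsZ x hx
      rwa [map_add, hcZ x hx, add_zero] at this
    have hTZ := hZmin T hTA a0 haT haZ ha0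
    exact hcT (hTZ hcZ)
  letI : CommRing A := { (inferInstance : Ring A) with mul_comm := fun a b => Subtype.ext (hcomm a a.2 b b.2) }
  haveI : Finite (Module.End (ZMod 2) E) := Finite.of_injective (fun f => (f : E → E)) DFunLike.coe_injective
  haveI : Nontrivial A := ⟨⟨0, 1, fun e => by
    obtain ⟨a, ha⟩ := exists_ne (0 : E)
    have := congrArg (fun r : A => (r : Module.End (ZMod 2) E) a) e
    exact ha this.symm⟩⟩
  haveI : NoZeroDivisors A := ⟨fun {a b} h => by
    by_contra hne
    push Not at hne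
    obtain ⟨x, hx⟩ : ∃ x, (b : Module.End (ZMod 2) E) x ≠ 0 := by
      by_contra! hall
      exact hne.2 (Subtype.ext (LinearMap.ext hall))
    exact hne.1 (Subtype.ext (inj a a.2 _ hx (congrArg (fun r : A => (r : Module.End (ZMod 2) E) x) h)))⟩
  haveI : IsDomain A := NoZeroDivisors.to_isDomain A
  letI : Field A := (Finite.isDomain_to_isField A).toField
  haveI : CharP A 2 := charP_of_injective_algebraMap (algebraMap (ZMod 2) A).injective 2
  let act : A →+* Module.End (ZMod 2) E := A.val.toRingHom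
  letI : Module A E := Module.compHom E act
  haveI : Fintype A := Fintype.ofFinite A
  haveI : Fintype E := Fintype.ofFinite E
  have hcardE : Nat.card E = Nat.card A ^ Module.finrank A E := by
    rw [Nat.card_eq_fintype_card, Nat.card_eq_fintype_card, Module.card_eq_pow_finrank (K := A)]
  obtain ⟨n, hn⟩ : ∃ n, Nat.card A = 2 ^ n :=
    ⟨Module.finrank (ZMod 2) A, by
      rw [Nat.card_eq_fintype_card, Module.card_eq_pow_finrank (K := ZMod 2), ZMod.card]⟩
  have hfin : Module.finrank (ZMod 2) A = n := by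
    have h := Module.card_eq_pow_finrank (K := ZMod 2) (V := A)
    rw [ZMod.card, ← Nat.card_eq_fintype_card, hn] at h
    exact (Nat.pow_right_injective le_rfl h).symm
  -- the Galois action
  let conjA : D → A → A := fun d r => ⟨L d * (r : Module.End (ZMod 2) E) * L d⁻¹, hconj d r r.2⟩
  have hdd : ∀ d, L d⁻¹ * L d = 1 := fun d => by rw [← map_mul, inv_mul_cancel, map_one]
  have hdd' : ∀ d, L d * L d⁻¹ = 1 := fun d => by rw [← map_mul, mul_inv_cancel, map_one]
  let g : D →* (A ≃ₐ[ZMod 2] A) :=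
    { toFun := fun d =>
        { toFun := conjA d
          invFun := conjA d⁻¹
          left_inv := fun r => Subtype.ext (by
            show L d⁻¹ * (L d * (r : Module.End (ZMod 2) E) * L d⁻¹) * L d⁻¹⁻¹ = r
            rw [inv_inv]
            simp only [mul_assoc]
            rw [hdd, mul_one, ← mul_assoc, hdd, one_mul])
          right_inv := fun r => Subtype.ext (by
            show L d * (L d⁻¹ * (r : Module.End (ZMod 2) E) * L d⁻¹⁻¹) * L d⁻¹ = r
            rw [inv_inv]
            simp only [mul_assoc]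
            rw [hdd', mul_one, ← mul_assoc, hdd', one_mul])
          map_mul' := fun r s => Subtype.ext (by
            show L d * ((r : Module.End (ZMod 2) E) * s) * L d⁻¹ = L d * r * L d⁻¹ * (L d * s * L d⁻¹)
            simp only [mul_assoc]
            rw [← mul_assoc (L d⁻¹) (L d), hdd, one_mul])
          map_add' := fun r s => Subtype.ext (by
            show L d * ((r : Module.End (ZMod 2) E) + s) * L d⁻¹ = L d * r * L d⁻¹ + L d * s * L d⁻¹
            rw [mul_add, add_mul])
          commutes' := fun c => Subtype.ext (by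
            show L d * algebraMap (ZMod 2) (Module.End (ZMod 2) E) c * L d⁻¹ = _
            rw [← Algebra.commutes, mul_assoc, hdd', mul_one]
            rfl) }
      map_one' := AlgEquiv.ext fun r => Subtype.ext (by
        show L 1 * (r : Module.End (ZMod 2) E) * L 1⁻¹ = r
        rw [inv_one, map_one, one_mul, mul_one])
      map_mul' := fun a b => AlgEquiv.ext fun r => Subtype.ext (by
        show L (a * b) * (r : Module.End (ZMod 2) E) * L (a * b)⁻¹ = L a * (L b * r * L b⁻¹) * L a⁻¹
        rw [mul_inv_rev, map_mul, map_mul]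
        simp only [mul_assoc]) }
  have hker : g.ker = F := by
    refine le_antisymm (fun d hd => ?_) fun d hd => ?_
    · refine Cores.centralizer_fittingSubgroup_le (Subgroup.mem_centralizer_iff.2 fun y hy => ?_)
      obtain ⟨k, rfl⟩ := hF y hy
      have h1 := congrArg (fun e : A ≃ₐ[ZMod 2] A => ((e ⟨L ξ, hξA⟩ : A) : Module.End (ZMod 2) E))
        (MonoidHom.mem_ker.mp hd)
      have h2 : L (d * ξ * d⁻¹) = L ξ := by rw [map_mul, map_mul]; exact h1
      have h3 : Commute d ξ := mul_inv_eq_iff_eq_mul.mp (L_inj h2)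
      exact (h3.zpow_right k).eq.symm
    · refine MonoidHom.mem_ker.mpr (AlgEquiv.ext fun r => Subtype.ext ?_)
      show L d * (r : Module.End (ZMod 2) E) * L d⁻¹ = r
      obtain ⟨k, rfl⟩ := hF d hd
      have hLk : L (ξ ^ k) ∈ A := by
        obtain ⟨j, hj⟩ := (isOfFinOrder_of_finite ξ).mem_powers_iff_mem_zpowers.mpr ⟨k, rfl⟩
        simp only at hj
        rw [← hj, map_pow]
        exact pow_mem hξA j
      rw [hcomm _ hLk _ r.2, mul_assoc, hdd', mul_one]
  have hrange : Nat.card g.range ∣ n := by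
    have h := Subgroup.card_subgroup_dvd_card g.range
    rwa [IsGalois.card_aut_eq_finrank, hfin] at h
  have hD : Nat.card D = Nat.card F * Nat.card g.range := by
    rw [← Nat.card_congr (QuotientGroup.quotientKerEquivRange g).toEquiv, hker, mul_comm]
    exact Subgroup.card_eq_card_quotient_mul_card_subgroup F
  -- the unit
  let l : Aˣ := Units.mk0 ⟨L ξ, hξA⟩ (fun e => by
    obtain ⟨a, ha⟩ := exists_ne (0 : E)
    exact ha (by simpa [L_apply, smul_eq_zero_iff_eq] using congrArg (fun r : A => (r : Module.End (ZMod 2) E) a) e))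
  have hlpow : ∀ j : ℕ, ((l ^ j : Aˣ) : A).1 = L (ξ ^ j) := fun j => by
    rw [Units.val_pow_eq_pow_val, map_pow]
    rfl
  have hord : orderOf l = Nat.card F := by
    have h1 : orderOf l = orderOf ξ := by
      refine Nat.dvd_antisymm (orderOf_dvd_of_pow_eq_one (Units.ext (Subtype.ext ?_)))
        (orderOf_dvd_of_pow_eq_one (L_inj ?_))
      · rw [hlpow, pow_orderOf_eq_one, map_one]; rfl
      · rw [← hlpow, pow_orderOf_eq_one, map_one]; rfl
    rw [h1, ← Subgroup.orderOf_mk ξ hξF]
    exact orderOf_eq_card_of_forall_mem_zpowers hgen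
  obtain ⟨v, hv⟩ := exists_ne (0 : E)
  have horb : Nat.card E - 1 ∣ Nat.card D := by
    have he : orbit D v = ({0}ᶜ : Set E) := by
      ext x
      refine ⟨?_, fun hx => htrans v x hv hx⟩
      rintro ⟨d, rfl⟩ h
      exact hv (by simpa using congrArg (d⁻¹ • ·) (Set.mem_singleton_iff.mp h))
    rw [Subgroup.card_eq_card_quotient_mul_card_subgroup (stabilizer D v),
      ← Nat.card_congr (orbitEquivQuotientStabilizer D v)]
    refine dvd_mul_of_dvd_left (dvd_of_eq ?_) _
    rw [Nat.card_coe_set_eq, he, Set.ncard_compl, Set.ncard_singleton]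
  have hFle : Nat.card F ∣ Nat.card A - 1 := by
    rw [← hord, ← Nat.card_units]
    exact orderOf_dvd_natCard l
  have hn0 : 1 ≤ n := by
    by_contra h0
    have h1 := Finite.one_lt_card (α := A)
    rw [hn, show n = 0 by omega] at h1
    norm_num at h1
  have hk : Module.finrank A E = 1 := by
    set k := Module.finrank A E
    have hk0 : k ≠ 0 := fun e => by rw [hcardE, e, pow_zero] at hbig; omega
    by_contra hk1
    have hDpos : 0 < Nat.card D := Nat.card_pos
    have h1 : Nat.card E - 1 ≤ Nat.card D := Nat.le_of_dvd hDpos horb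
    have h2 : Nat.card F ≤ 2 ^ n - 1 := by
      rw [← hn]
      exact Nat.le_of_dvd (by rw [hn]; have := Nat.pow_le_pow_right (show 0 < 2 by norm_num) hn0; omega) hFle
    have h3 : Nat.card g.range ≤ n := Nat.le_of_dvd (by omega) hrange
    have h4 : 2 ^ n * 2 ^ n ≤ Nat.card E := by
      rw [hcardE, hn, ← pow_two]
      exact Nat.pow_le_pow_right (Nat.pow_pos (by norm_num)) (by omega)
    have h5 : n < 2 ^ n := Nat.lt_two_pow_self
    have h6 : Nat.card D ≤ (2 ^ n - 1) * n := by rw [hD]; exact Nat.mul_le_mul h2 h3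
    have h7 : (2 ^ n - 1) * n ≤ (2 ^ n - 1) * (2 ^ n - 1) := Nat.mul_le_mul_left _ (by omega)
    have h8 : (2 ^ n - 1) * (2 ^ n - 1) + 2 * 2 ^ n = 2 ^ n * 2 ^ n + 1 := by
      obtain ⟨q, hq⟩ : ∃ q, 2 ^ n = q + 1 := ⟨2 ^ n - 1, by omega⟩
      rw [hq, Nat.add_sub_cancel]; ring
    omega
  have hE' : Nat.card E = 2 ^ n := by rw [hcardE, hk, pow_one, hn]
  let ev : A →+ E :=
    { toFun := fun r => (r : Module.End (ZMod 2) E) v
      map_zero' := rfl
      map_add' := fun _ _ => rfl }
  have hevi : Function.Injective ev := by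
    intro r s h
    have h0 : ((r - s : A) : Module.End (ZMod 2) E) v = 0 := sub_eq_zero.mpr h
    exact sub_eq_zero.mp (Subtype.ext (inj _ (r - s).2 v hv h0))
  let eqv : A ≃+ E := AddEquiv.ofBijective ev (hevi.bijective_of_nat_card_le (by rw [hE', hn]))
  refine ⟨A, inferInstance, ξ, l, eqv.symm, n, Nat.card g.range, inferInstance, inferInstance,
    fun a => ?_, hn, ?_, hrange, ?_, fun a ha hla => ?_⟩
  · obtain ⟨r, rfl⟩ := eqv.surjective a
    rw [AddEquiv.symm_apply_apply, AddEquiv.symm_apply_eq]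
    rfl
  · by_contra hlt
    rw [hE'] at hbig
    have : 2 ^ n ≤ 2 ^ 1 := Nat.pow_le_pow_right (by norm_num) (by omega)
    omega
  · rw [hord, ← hD, ← hE']
    exact horb
  · let fixd : Subalgebra (ZMod 2) A :=
      { carrier := {x | x ^ 2 ^ a = x}
        mul_mem' := fun {x y} hx hy => by simp only [Set.mem_setOf_eq] at *; rw [mul_pow, hx, hy]
        add_mem' := fun {x y} hx hy => by
          simp only [Set.mem_setOf_eq] at *; rw [add_pow_char_pow, hx, hy]
        algebraMap_mem' := fun c => by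
          simp only [Set.mem_setOf_eq, ← map_pow]
          congr 1
          rcases zmod_two_cases c with rfl | rfl
          · exact zero_pow (pow_ne_zero _ (by norm_num))
          · exact one_pow _ }
    have htop : ∀ x : A, x ^ 2 ^ a = x := by
      rintro ⟨x, hx⟩
      have hle : A ≤ fixd.map A.val := Algebra.adjoin_le (by
        rintro _ rfl
        exact ⟨⟨L ξ, hξA⟩, hla, rfl⟩)
      obtain ⟨y, hy, e⟩ := hle hx
      rw [show (⟨x, hx⟩ : A) = y from Subtype.ext e.symm]
      exact hy
    by_contra ha0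
    have hdeg : (Polynomial.X ^ 2 ^ a - Polynomial.X : Polynomial A).natDegree = 2 ^ a :=
      FiniteField.X_pow_card_pow_sub_X_natDegree_eq A ha0 (by norm_num : 1 < 2)
    have hne : (Polynomial.X ^ 2 ^ a - Polynomial.X : Polynomial A) ≠ 0 :=
      FiniteField.X_pow_card_pow_sub_X_ne_zero A ha0 (by norm_num : 1 < 2)
    have hsub : (Finset.univ : Finset A) ⊆ (Polynomial.X ^ 2 ^ a - Polynomial.X : Polynomial A).roots.toFinset :=
      fun x _ => by simp [Polynomial.mem_roots hne, htop x]
    have := (Finset.card_le_card hsub).trans ((Multiset.toFinset_card_le _).trans (Polynomial.card_roots' _))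
    rw [hdeg, Finset.card_univ, ← Nat.card_eq_fintype_card, hn] at this
    have := (Nat.pow_le_pow_iff_right (by norm_num : 1 < 2)).mp this
    omega

end Cfsg.Agent.Components.SuzukiTwo
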