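import Cfsg.Agent.Lib.Components.SuzukiTwo.Kernel

/-!
The squares of a non-abelian group with field-like action on its central involutions are involutions.
-/

set_option autoImplicit false
set_option linter.all false

namespace Cfsg.Agent.Components.SuzukiTwo

open Subgroup
open Cfsg.Agent.Components.SmallScn (cm cm_eq_one_iff cm_map cm_mul_left cm_mul_right cm_self cm_mem_of_sq)

universe u v

variable {G : Type u} [Group G] [Finite G] {W : Subgroup G} {Y : Subgroup (MulAut G)} {φ : MulAut G}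
  {R : Type v} [Field R]

namespace Setup

variable (h : Setup W Y φ R)
include h

theorem nonabelian_layer {a b : G} (ha : a ∈ h.K) (hb : b ∈ h.K) (hab : a * b ≠ b * a) :
    ∀ x : G, x * x ∈ W := by
  have haW : a ∉ W := fun e => hab (h.central a e b).symm
  have hcent : ∀ z ∈ h.K, (∀ k ∈ h.K, z * k = k * z) → z ∈ W := by
    intro z hz hzc
    by_contra hzW
    have hall : ∀ k ∈ h.K, ∀ k' ∈ h.K, k * k' = k' * k := by
      intro k hk
      by_cases hk1 : k * k = 1
      · intro k' _; exact (h.central k ((h.mem_iff k).mpr hk1) k').symm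
      obtain ⟨y, -, hy⟩ := h.trans _ hz.1 (fun e => hzW ((h.mem_iff z).mpr e)) _ hk.1 hk1
      have hyc : ∀ k' ∈ h.K, y z * k' = k' * y z := by
        intro k' hk'
        have := congrArg y (hzc _ (h.K_map y.symm hk'))
        simpa using this
      rw [map_mul] at hy
      have hm := h.mul_inv_mem (hyc k hk) hy
      have hk_eq : k = (y z * k⁻¹)⁻¹ * y z := by group
      intro k' hk'
      have c1 : (y z * k⁻¹)⁻¹ * k' = k' * (y z * k⁻¹)⁻¹ := (h.central _ (inv_mem hm) k').symm
      rw [hk_eq, mul_assoc, hyc k' hk', ← mul_assoc, c1, mul_assoc]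
    exact hab (hall a ha b hb)
  set C := centralizer (h.K : Set G)
  haveI := h.K_normal
  haveI : C.Normal := inferInstanceAs (centralizer (h.K : Set G)).Normal
  have hWC : W ≤ C := fun w hw => mem_centralizer_iff.mpr fun k _ => h.central w hw k
  have hC : C = W := by
    by_contra hne
    obtain ⟨x, hxC, hxK, hxW⟩ := h.step (lt_of_le_of_ne hWC (Ne.symm hne))
    exact hxW (hcent x hxK fun k hk => (mem_centralizer_iff.mp hxC k hk).symm)
  intro x
  rw [← hC]
  exact mem_centralizer_iff.mpr fun k hk => (cm_eq_one_iff.mp (h.sq_center hk)).symm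

/-- The bilinear step. -/
theorem comm_of_cm_mem (hKW : ¬ h.K ≤ W) (hab : ∀ a ∈ h.K, ∀ b ∈ h.K, a * b = b * a)
    (hinK : ∀ x : G, x * x ∈ W → x ∈ h.K) (hcm : ∀ a b : G, cm a b ∈ W)
    (hnsq : ¬ ∀ x : G, x * x ∈ W) : ∀ a b : G, a * b = b * a := by
  classical
  have hsqc : ∀ a b : G, b * (a * a) = a * a * b := fun a b => by
    refine (cm_eq_one_iff.mp ?_).symm
    rw [cm_mul_left (h.central _ (hcm a b))]
    exact h.exp (hcm a b)
  have hex : ∃ e, ∀ g : G, g ^ 2 ^ e ∈ h.K := by
    haveI : Fact (Nat.Prime 2) := ⟨Nat.prime_two⟩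
    obtain ⟨m, hm⟩ := h.two.exists_card_eq
    exact ⟨m, fun g => by rw [← hm, pow_card_eq_one']; exact one_mem _⟩
  obtain ⟨d, hd⟩ : ∃ d, Nat.find hex = d + 1 := by
    refine Nat.exists_eq_succ_of_ne_zero fun e => hnsq fun x => ?_
    have := Nat.find_spec hex x
    rw [e, pow_zero, pow_one] at this
    exact this.1
  obtain ⟨g0, hg0⟩ : ∃ g, g ^ 2 ^ d ∉ h.K := by
    by_contra! hall
    exact Nat.find_min hex (show d < Nat.find hex by omega) hall
  set N := 2 ^ (d + 1 + 1) with hN
  have hKd : ∀ g : G, g ^ 2 ^ (d + 1) ∈ h.K := fun g => hd ▸ Nat.find_spec hex g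
  have hP : ∀ g : G, g ^ N ∈ W := fun g => by
    rw [hN, pow_succ, pow_mul, pow_two]
    exact (hKd g).1
  have hfour : ∀ a b : G, (a * b) ^ 4 = a ^ 4 * b ^ 4 := by
    intro a b
    have e : a * b * (a * b) = a * a * (b * b) * (cm b a) := by
      have hc := h.central _ (hcm b a)
      calc a * b * (a * b) = a * (cm b a * (a * b)) * b := by simp only [cm]; group
        _ = cm b a * (a * (a * b) * b) := by rw [← mul_assoc a (cm b a), hc a]; group
        _ = a * a * (b * b) * cm b a := by rw [hc]; group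
    have c1 : Commute (a * a) (b * b) := hsqc b (a * a)
    have c2 : Commute (a * a * (b * b)) (cm b a) := h.central _ (hcm b a) _
    calc (a * b) ^ 4 = (a * b * (a * b)) ^ 2 := by rw [← pow_two, ← pow_mul]
      _ = (a * a) ^ 2 * (b * b) ^ 2 := by
          rw [e, c2.mul_pow, c1.mul_pow, pow_two (cm b a), h.exp (hcm b a), mul_one]
      _ = a ^ 4 * b ^ 4 := by simp only [← pow_two, ← pow_mul]; norm_num
  have hN4 : N = 4 * 2 ^ d := by rw [hN, pow_succ, pow_succ]; ring
  have Pmul : ∀ a b : G, (a * b) ^ N = a ^ N * b ^ N := fun a b => by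
    have hc : Commute (a ^ 4) (b ^ 4) := by
      have := hsqc (b * b) (a ^ 4)
      rwa [show b * b * (b * b) = b ^ 4 by simp [pow_succ, mul_assoc]] at this
    rw [hN4, pow_mul, hfour, hc.mul_pow, ← pow_mul, ← pow_mul]
  have hP0 : g0 ^ N ≠ 1 := fun e => by
    refine hg0 (hinK _ ((h.mem_iff _).mpr ?_))
    rw [← pow_add, ← pow_add]
    rwa [show 2 ^ d + 2 ^ d + (2 ^ d + 2 ^ d) = N by rw [hN4]; ring]
  have Psurj : ∀ w : W, ∃ g : G, g ^ N = w := by
    intro w
    by_cases h1 : (w : G) = 1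
    · exact ⟨1, by rw [one_pow, h1]⟩
    obtain ⟨y, -, hy⟩ := h.trans _ (hP g0) hP0 w w.2 h1
    exact ⟨y g0, by rw [← map_pow, hy]⟩
  have hker : ∀ i, i ≤ d + 1 → ∀ g : G, g ^ 2 ^ (i + 1) = 1 → ∀ z, z * g = g * z := by
    intro i
    induction i with
    | zero =>
      intro _ g hg z
      exact h.central g ((h.mem_iff g).mpr (by rw [← pow_two]; simpa using hg)) z
    | succ i ih =>
      intro hi g hg z
      have hw : g ^ 2 ^ (i + 1) ∈ W := by
        rw [h.mem_iff, ← pow_add]
        rwa [show 2 ^ (i + 1) + 2 ^ (i + 1) = 2 ^ (i + 1 + 1) by ring]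
      obtain ⟨g1, hg1⟩ := Psurj ⟨_, hw⟩
      obtain ⟨r, hr⟩ : ∃ r, d + 1 = i + (r + 1) := ⟨d - i, by omega⟩
      set s := g1 ^ 2 ^ r with hs
      have hsc : ∀ y, y * (s * s) = s * s * y := fun y => hsqc s y
      have hss : (s * s) ^ 2 ^ (i + 1) = g ^ 2 ^ (i + 1) := by
        rw [show g ^ 2 ^ (i + 1) = g1 ^ N from hg1.symm, hs, ← pow_add, ← pow_mul]
        congr 1
        rw [hN, hr]
        ring
      have hg' : (g * (s * s)⁻¹) ^ 2 ^ (i + 1) = 1 := by
        have hc : Commute g (s * s)⁻¹ := Commute.inv_right (hsc g)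
        rw [hc.mul_pow, inv_pow, hss, mul_inv_cancel]
      have := ih (by omega) _ hg' z
      calc z * g = z * (g * (s * s)⁻¹) * (s * s) := by group
        _ = g * (s * s)⁻¹ * z * (s * s) := by rw [this]
        _ = g * (s * s)⁻¹ * (s * s) * z := by rw [mul_assoc, hsc z, ← mul_assoc]
        _ = g * z := by group
  have hker' : ∀ g : G, g ^ N = 1 → ∀ z, z * g = g * z := fun g hg => hker (d + 1) le_rfl g hg
  choose sec hsec using Psurj
  let σ : G → W → W := fun g w => ⟨cm g (sec w), hcm _ _⟩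
  have hdep : ∀ g a b : G, a ^ N = b ^ N → cm g a = cm g b := by
    intro g a b e
    have hb : (b⁻¹ : G) ^ N = (b ^ N)⁻¹ := inv_pow b N
    have h1 : (b⁻¹ * a) ^ N = 1 := by rw [Pmul, hb, e, inv_mul_cancel]
    conv_lhs => rw [show a = b * (b⁻¹ * a) by group]
    rw [cm_mul_right (h.central _ (hcm g (b⁻¹ * a))), cm_eq_one_iff.mpr (hker' _ h1 g), mul_one]
  obtain ⟨ρ, hρ, hfl⟩ := h.field
  have hone : ∀ g, σ g = 1 := by
    intro g
    refine split hfl (Set.range σ) ?_ ?_ ?_ (fun τ => τ = 1) rfl (fun a b ha hb => by rw [ha, hb, one_mul])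
      ?_ _ ⟨g, rfl⟩
    · rintro _ ⟨x, rfl⟩ a b
      refine Subtype.ext ?_
      show cm x (sec (a * b)) = cm x (sec a) * cm x (sec b)
      rw [← cm_mul_right (h.central _ (hcm x (sec b)))]
      exact hdep _ _ _ (by rw [Pmul, hsec, hsec, hsec, coe_mul])
    · rintro _ ⟨x, rfl⟩ _ ⟨y, rfl⟩
      exact ⟨x * y, funext fun w => Subtype.ext (cm_mul_left (h.central _ (hcm y (sec w))))⟩
    · rintro _ ⟨x, rfl⟩ τ hτ
      refine ⟨φ x, funext fun w => ?_⟩
      have hsurj : Function.Surjective ρ := by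
        refine Finite.surjective_of_injective fun a b e => ?_
        have := congrArg Subtype.val e
        rw [hρ, hρ] at this
        exact Subtype.ext (φ.injective this)
      obtain ⟨v, rfl⟩ := hsurj w
      refine Subtype.ext ?_
      rw [hτ, hρ]
      show cm (φ x) (sec (ρ v)) = φ (cm x (sec v))
      rw [cm_map φ]
      exact hdep _ _ _ (by rw [← map_pow, hsec, hsec, hρ])
    · rintro _ ⟨x, rfl⟩ hb
      exfalso
      have hτ1 : σ x 1 = 1 := Subtype.ext (by
        show cm x (sec 1) = 1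
        rw [hdep x (sec 1) 1 (by rw [hsec, one_pow]; rfl)]
        simp [cm])
      have hxP : σ x ⟨x ^ N, hP x⟩ = 1 := Subtype.ext (by
        show cm x (sec _) = 1
        rw [hdep x _ x (hsec _), cm_self])
      have hx1 : x ^ N = 1 := congrArg Subtype.val (hb.1.1 (hxP.trans hτ1.symm))
      have hconst : ∀ w, σ x w = 1 := fun w =>
        Subtype.ext (cm_eq_one_iff.mpr (hker' x hx1 (sec w)).symm)
      have : Subsingleton W := ⟨fun a b => hb.1.1 ((hconst a).trans (hconst b).symm)⟩
      have := h.card_W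
      rw [Nat.card_of_subsingleton (1 : W)] at this
      omega
  intro a b
  refine cm_eq_one_iff.mp ?_
  rw [hdep a b (sec ⟨b ^ N, hP b⟩) (hsec ⟨b ^ N, hP b⟩).symm]
  exact congrArg Subtype.val (congrFun (hone a) _)

end Setup

theorem comm_or_sq_aux (n : ℕ) : ∀ {G : Type u} [Group G] [Finite G] {W : Subgroup G}
    {Y : Subgroup (MulAut G)} {φ : MulAut G}, Nat.card G = n → Setup W Y φ R →
    (∀ a b : G, a * b = b * a) ∨ ∀ x : G, x * x ∈ W := by
  induction n using Nat.strong_induction_on with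
  | _ n ih =>
  intro G _ _ W Y φ hn h
  classical
  by_cases hKW : h.K ≤ W
  · left
    intro a b
    have : b ∈ W := by rw [h.eq_top_of_K_le hKW]; exact mem_top _
    exact h.central b this a
  by_cases hab : ∀ a ∈ h.K, ∀ b ∈ h.K, a * b = b * a
  swap
  · push Not at hab
    obtain ⟨a, ha, b, hb, hne⟩ := hab
    exact Or.inr (h.nonabelian_layer ha hb hne)
  have hC := h.centralizer_eq_top hKW hab
  have hKc : ∀ k ∈ h.K, ∀ x : G, x * k = k * x := fun k hk x =>
    (mem_centralizer_iff.mp (show x ∈ centralizer (h.K : Set G) by rw [hC]; exact mem_top x) k hk).symm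
  have hinK : ∀ x : G, x * x ∈ W → x ∈ h.K := fun x hx =>
    h.mem_K hKW hab (by rw [hC]; exact mem_top x) hx
  by_cases hsq : ∀ x : G, x * x ∈ W
  · exact Or.inr hsq
  left
  refine h.comm_of_cm_mem hKW hab hinK ?_ hsq
  -- the quotient by the involutions
  haveI := h.W_normal
  let f := QuotientGroup.mk' W
  have hf : ∀ x : G, f x = 1 ↔ x ∈ W := fun x => QuotientGroup.eq_one_iff x
  have hmapW : ∀ a : MulAut G, W.map a = W := by
    intro a
    ext x
    exact ⟨fun ⟨w, hw, e⟩ => e ▸ h.map_mem a hw, fun hx => ⟨a.symm x, h.map_mem a.symm hx, a.apply_symm_apply x⟩⟩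
  let q : MulAut G →* MulAut (G ⧸ W) :=
    { toFun := fun a => QuotientGroup.congr W W a (hmapW a)
      map_one' := MulEquiv.ext fun x => by
        induction x using QuotientGroup.induction_on
        rfl
      map_mul' := fun a b => MulEquiv.ext fun x => by
        induction x using QuotientGroup.induction_on
        rfl }
  have hq : ∀ (a : MulAut G) (x : G), q a (f x) = f (a x) := fun a x => rfl
  set W' := h.K.map f with hW'
  have hmem : ∀ x : G, f x ∈ W' ↔ x ∈ h.K := by
    intro x
    constructor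
    · rintro ⟨k, hk, e⟩
      have : k⁻¹ * x ∈ W := (hf _).mp (by rw [map_mul, map_inv, e, inv_mul_cancel])
      rw [show x = k * (k⁻¹ * x) by group]
      exact mul_mem hk (h.W_le_K this)
    · exact fun hx => ⟨x, hx, rfl⟩
  have h' : Setup W' (Y.map q) (q φ) R := by
    obtain ⟨ρ, hρ, hfl⟩ := h.field
    refine ⟨h.two.to_quotient W, ?_, ?_, ?_, h.odd.of_dvd_nat (orderOf_map_dvd q φ), ?_⟩
    · intro x
      obtain ⟨x, rfl⟩ := QuotientGroup.mk'_surjective W x
      rw [hmem, ← map_mul, hf]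
      exact ⟨fun hx => hx.1, hinK x⟩
    · intro w hw z
      obtain ⟨z, rfl⟩ := QuotientGroup.mk'_surjective W z
      obtain ⟨k, hk, rfl⟩ := hw
      show f z * f k = f k * f z
      rw [← map_mul, hKc k hk z, map_mul]
    · rintro a ⟨k, hk, rfl⟩ hk1 b ⟨k', hk', rfl⟩ hk1'
      obtain ⟨y, hy, e⟩ := h.trans _ hk.1 (fun e => hk1 ((hf k).mpr ((h.mem_iff k).mpr e))) _ hk'.1
        (fun e => hk1' ((hf k').mpr ((h.mem_iff k').mpr e)))
      refine ⟨q y, mem_map_of_mem q hy, ?_⟩
      rw [map_mul] at e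
      have := h.mul_inv_mem (hab _ (h.K_map y hk) _ hk') e
      rw [hq, ← mul_inv_eq_one, ← map_inv, ← map_mul, hf]
      exact this
    · have hqmem : ∀ w ∈ W', q φ w ∈ W' := by
        rintro _ ⟨k, hk, rfl⟩
        rw [hq, hmem]
        exact h.K_map φ hk
      refine ⟨fun w => ⟨q φ w, hqmem w w.2⟩, fun w => rfl, ?_⟩
      let θ : W → W' := fun w => ⟨f (h.root hKW w), (hmem _).mpr (h.root_spec hKW w).1⟩
      have hθ : ∀ (w : W) (k : G), k ∈ h.K → k * k = w → (θ w : G ⧸ W) = f k := by
        intro w k hk hkw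
        have hr := h.root_spec hKW w
        show f (h.root hKW w) = f k
        rw [← mul_inv_eq_one, ← map_inv, ← map_mul, hf]
        exact h.mul_inv_mem (hab _ hr.1 _ hk) (hr.2.trans hkw.symm)
      have hθb : Function.Bijective θ := by
        constructor
        · intro a b e
          have e' := congrArg Subtype.val e
          simp only [θ] at e'
          obtain ⟨ha, haw⟩ := h.root_spec hKW a
          obtain ⟨hb, hbw⟩ := h.root_spec hKW b
          rw [← mul_inv_eq_one, ← map_inv, ← map_mul, hf] at e'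
          apply Subtype.ext
          rw [← haw, ← hbw]
          set w := h.root hKW a * (h.root hKW b)⁻¹ with hw
          rw [show h.root hKW a = w * h.root hKW b by rw [hw, inv_mul_cancel_right],
            mul_assoc, ← mul_assoc (h.root hKW b) w, h.central w e' (h.root hKW b), mul_assoc w,
            ← mul_assoc w w, h.exp e', one_mul]
        · rintro ⟨_, k, hk, rfl⟩
          exact ⟨⟨k * k, hk.1⟩, Subtype.ext (hθ _ k hk rfl)⟩
      refine FieldLike.congr hfl (Equiv.ofBijective θ hθb).symm ?_ ?_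
      · intro a b
        apply (Equiv.ofBijective θ hθb).injective
        rw [Equiv.apply_symm_apply]
        obtain ⟨a, rfl⟩ := hθb.2 a
        obtain ⟨b, rfl⟩ := hθb.2 b
        rw [Equiv.ofBijective_symm_apply_apply, Equiv.ofBijective_symm_apply_apply]
        refine Subtype.ext ?_
        obtain ⟨ha, haw⟩ := h.root_spec hKW a
        obtain ⟨hb, hbw⟩ := h.root_spec hKW b
        show (θ a : G ⧸ W) * θ b = (θ (a * b) : G ⧸ W)
        rw [hθ (a * b) _ (mul_mem ha hb) (by
          rw [coe_mul, ← haw, ← hbw, mul_assoc, ← mul_assoc (h.root hKW b), ← hab _ ha _ hb]; group),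
          map_mul]
      · intro b
        apply (Equiv.ofBijective θ hθb).injective
        rw [Equiv.apply_symm_apply]
        obtain ⟨b, rfl⟩ := hθb.2 b
        rw [Equiv.ofBijective_symm_apply_apply]
        refine Subtype.ext ?_
        obtain ⟨hb, hbw⟩ := h.root_spec hKW b
        show q φ (θ b) = (θ (ρ b) : G ⧸ W)
        rw [hθ (ρ b) _ (h.K_map φ hb) (by rw [← map_mul, hbw, hρ])]
        rfl
  have hlt : Nat.card (G ⧸ W) < n := by
    rw [← hn, W.card_eq_card_quotient_mul_card_subgroup]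
    exact lt_mul_of_one_lt_right Nat.card_pos (lt_of_lt_of_le (by norm_num) h.card_W)
  rcases ih _ hlt rfl h' with hc | hs
  · intro a b
    rw [← hf, cm_map f, cm_eq_one_iff]
    exact hc _ _
  · have hs' : ∀ x : G, x * x ∈ h.K := fun x => (hmem _).mp (by rw [map_mul]; exact hs (f x))
    intro a b
    have hk : cm a b ∈ h.K := cm_mem_of_sq (fun k hk z => hKc k hk z) hs' a b
    rw [h.mem_iff, ← cm_mul_left (hKc _ hk), cm_eq_one_iff]
    exact (hKc _ (hs' a) b).symm

theorem Setup.comm_or_sq (h : Setup W Y φ R) : (∀ a b : G, a * b = b * a) ∨ ∀ x : G, x * x ∈ W :=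
  comm_or_sq_aux _ rfl h

end Cfsg.Agent.Components.SuzukiTwo
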