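import Cfsg.Agent.Lib.Components.SuzukiTwo.Setup

/-!
If the layer over the involutions is abelian, it is central.
-/

set_option autoImplicit false
set_option linter.all false

namespace Cfsg.Agent.Components.SuzukiTwo

open Subgroup
open Cfsg.Agent.Components.SmallScn (cm cm_eq_one_iff cm_map cm_mul_left cm_mul_right cm_self cm_mem_of_sq)

universe u v

variable {G : Type u} [Group G] {W : Subgroup G} {Y : Subgroup (MulAut G)} {φ : MulAut G}
  {R : Type v} [Field R]

/-- An automorphism of odd order moving a point of a set it preserves has a power of odd prime power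
order doing so. -/
theorem exists_prime_power [Finite G] {ψ : MulAut G} (hψ : Odd (orderOf ψ)) {w : G} (hw : ψ w ≠ w) :
    ∃ q, q.Prime ∧ q ≠ 2 ∧ ∃ j : ℕ, (ψ ^ j) w ≠ w ∧ IsPGroup q (zpowers (ψ ^ j)) := by
  classical
  set Z := zpowers ψ
  let F : Subgroup Z := (MulAction.stabilizer (MulAut G) w).subgroupOf Z
  have hF : F.index ≠ 1 := fun e => hw (by
    have : (⟨ψ, mem_zpowers ψ⟩ : Z) ∈ F := by rw [index_eq_one.mp e]; exact mem_top _
    exact this)
  obtain ⟨q, hq, hqd⟩ := Nat.exists_prime_and_dvd hF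
  haveI : Fact q.Prime := ⟨hq⟩
  obtain ⟨P⟩ : Nonempty (Sylow q Z) := inferInstance
  obtain ⟨g, hg, hgF⟩ : ∃ g ∈ (P : Subgroup Z), g ∉ F := by
    by_contra! hle
    exact P.not_dvd_index (hqd.trans (index_dvd_of_le hle))
  have hq2 : q ≠ 2 := by
    rintro rfl
    have h1 : 2 ∣ Nat.card Z := hqd.trans F.index_dvd_card
    rw [Nat.card_zpowers] at h1
    exact hψ.not_two_dvd_nat h1
  obtain ⟨j, hj⟩ := (isOfFinOrder_of_finite ψ).mem_powers_iff_mem_zpowers.mpr g.2
  have hj' : ψ ^ j = (g : MulAut G) := hj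
  refine ⟨q, hq, hq2, j, fun e => hgF ?_, ?_⟩
  · show (g : MulAut G) • w = w
    rw [← hj']
    exact e
  · rw [hj']
    have hgq : IsPGroup q (zpowers g) := P.isPGroup'.to_le (zpowers_le.mpr hg)
    have := hgq.map Z.subtype
    rwa [MonoidHom.map_zpowers] at this

namespace Setup

variable [Finite G] (h : Setup W Y φ R) (hKW : ¬ h.K ≤ W)
  (hab : ∀ a ∈ h.K, ∀ b ∈ h.K, a * b = b * a)
include h hKW hab

local notation "C" => centralizer (h.K : Set G)

theorem bij_not_mem {x : G} (hx : Function.Bijective (h.adj hKW x)) : x ∉ C := by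
  intro hm
  rw [(h.adj_eq_one hKW hab).mpr hm] at hx
  have : Subsingleton W := ⟨fun a b => hx.1 rfl⟩
  have := h.card_W
  rw [Nat.card_of_subsingleton (1 : W)] at this
  omega

/-- Bijective adjoints come from square roots of involutions. -/
theorem bij_sq {x : G} (hx : Function.Bijective (h.adj hKW x)) : x * x ∈ W := by
  by_contra hc
  have hC : x * x ∈ C := mem_centralizer_iff.mpr fun k hk =>
    (cm_eq_one_iff.mp (h.sq_center hk)).symm
  obtain ⟨i, hi, hi'⟩ := h.exists_layer hKW hab hC hc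
  set z := (x * x) ^ 2 ^ i
  have hcomm : cm x z = 1 := cm_eq_one_iff.mpr ((((Commute.refl x).mul_right (Commute.refl x)).pow_right _))
  have h1 : h.adj hKW x ⟨z * z, hi.1⟩ = h.adj hKW x 1 := Subtype.ext (by
    rw [h.adj_val hKW hab x hi rfl, hcomm, h.adj_val hKW hab x (one_mem _) (by simp)]
    simp [cm])
  exact hi' ((h.mem_iff z).mpr (congrArg Subtype.val (hx.1 h1)))

theorem bij_inverts {y : G} (hy : Function.Bijective (h.adj hKW y)) {u : G} (hu : u ∈ C) :
    u * (y * u * y⁻¹) ∈ W := by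
  have hd : h.adj hKW (u * y) = h.adj hKW y := by
    rw [h.adj_mul hKW hab, (h.adj_eq_one hKW hab).mpr hu, one_mul]
  have h1 := h.bij_sq hKW hab (x := u * y) (by rw [hd]; exact hy)
  have h2 := h.bij_sq hKW hab hy
  rw [show u * (y * u * y⁻¹) = u * y * (u * y) * (y * y)⁻¹ by group]
  exact mul_mem h1 (inv_mem h2)

/-- A bijective adjoint commutes with no power of `φ` moving `W`. -/
theorem no_commute {x : G} (hx : Function.Bijective (h.adj hKW x)) {k : ℕ}
    (hk : ∃ a ∈ W, (φ ^ k) a ≠ a)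
    (hc : ∀ w : W, (h.adj hKW x ⟨(φ ^ k) w, h.map_mem _ w.2⟩ : G) = (φ ^ k) (h.adj hKW x w : G)) :
    False := by
  classical
  obtain ⟨a, ha, hka⟩ := hk
  have hodd : Odd (orderOf (φ ^ k)) := h.odd.of_dvd_nat (orderOf_pow_dvd k)
  obtain ⟨q, hq, hq2, j, hj, hpg⟩ := exists_prime_power hodd hka
  set ψ := (φ ^ k) ^ j with hψdef
  haveI : Fact q.Prime := ⟨hq⟩
  have hcj : ∀ (i : ℕ) (w : W), (h.adj hKW x ⟨((φ ^ k) ^ i) w, h.map_mem _ w.2⟩ : G)
      = ((φ ^ k) ^ i) (h.adj hKW x w : G) := by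
    intro i
    induction i with
    | zero => intro w; rfl
    | succ i ih =>
      intro w
      have h1 := hc ⟨((φ ^ k) ^ i) w, h.map_mem _ w.2⟩
      simp only [ih w] at h1
      simp only [pow_succ', MulAut.mul_apply]
      exact h1
  have hpres : ∀ g : G, h.adj hKW g = h.adj hKW x → h.adj hKW (ψ g) = h.adj hKW x := by
    intro g hg
    funext w
    have hv : ψ.symm (w : G) ∈ W := h.map_mem ψ.symm w.2
    have h1 := h.adj_map hKW hab ψ g ⟨_, hv⟩
    have e : (⟨ψ (ψ.symm (w : G)), h.map_mem ψ hv⟩ : W) = w := Subtype.ext (ψ.apply_symm_apply _)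
    rw [e, hg, ← hcj j ⟨_, hv⟩, ← hψdef, e] at h1
    exact Subtype.ext h1
  have hinv : ∀ z : zpowers ψ, ∀ g : G, h.adj hKW g = h.adj hKW x →
      h.adj hKW ((z : MulAut G) g) = h.adj hKW x := by
    intro z
    obtain ⟨i, hi⟩ := (isOfFinOrder_of_finite ψ).mem_powers_iff_mem_zpowers.mpr z.2
    have hi' : (z : MulAut G) = ψ ^ i := hi.symm
    rw [hi']
    clear hi hi' z
    induction i with
    | zero => intro g hg; exact hg
    | succ i ih => intro g hg; rw [pow_succ', MulAut.mul_apply]; exact hpres _ (ih g hg)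
  let S := {g : G // h.adj hKW g = h.adj hKW x}
  letI : MulAction (zpowers ψ) S :=
    { smul := fun z s => ⟨(z : MulAut G) s.1, hinv z s.1 s.2⟩
      one_smul := fun s => Subtype.ext rfl
      mul_smul := fun a b s => Subtype.ext rfl }
  let eqv : S ≃ C :=
    { toFun := fun s => ⟨x⁻¹ * s.1, (h.adj_eq_one hKW hab).mp (by
        rw [h.adj_mul hKW hab, s.2, ← h.adj_mul hKW hab, inv_mul_cancel]
        exact (h.adj_eq_one hKW hab).mpr (one_mem _))⟩
      invFun := fun c => ⟨x * c, by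
        rw [h.adj_mul hKW hab, (h.adj_eq_one hKW hab).mpr c.2, mul_one]⟩
      left_inv := fun s => Subtype.ext (mul_inv_cancel_left _ _)
      right_inv := fun c => Subtype.ext (inv_mul_cancel_left _ _) }
  haveI : Fact (Nat.Prime 2) := ⟨Nat.prime_two⟩
  obtain ⟨m, hm⟩ := (h.two.to_subgroup C).exists_card_eq
  have hnd : ¬ q ∣ Nat.card S := by
    rw [Nat.card_congr eqv, hm]
    exact fun hd => hq2 ((Nat.prime_dvd_prime_iff_eq hq Nat.prime_two).mp (hq.dvd_of_dvd_pow hd))
  obtain ⟨⟨g, hg⟩, hfix⟩ := hpg.nonempty_fixed_point_of_prime_not_dvd_card S hnd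
  have hgψ : ψ g = g := congrArg Subtype.val (hfix ⟨ψ, mem_zpowers ψ⟩)
  have hψp : ψ = φ ^ (k * j) := by rw [hψdef, ← pow_mul]
  have hgsq := h.bij_sq hKW hab (x := g) (by rw [hg]; exact hx)
  have hg1 : g * g = 1 := h.fpf_pow (k * j) ⟨a, ha, by rw [← hψp]; exact hj⟩ hgsq (by
    rw [← hψp, map_mul, hgψ])
  exact h.bij_not_mem hKW hab (x := g) (by rw [hg]; exact hx)
    (mem_centralizer_iff.mpr fun k' _ => h.central g ((h.mem_iff g).mpr hg1) k')

/-- Some non-trivial adjoint lies in a field of bijective ones. -/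
def HasField (x : G) : Prop :=
  Function.Bijective (h.adj hKW x) ∧ ∃ U ⊆ Set.range (h.adj hKW), h.adj hKW x ∈ U ∧
    (∀ u ∈ U, ∀ u' ∈ U, u * u' ∈ U) ∧ Set.ncard U = Nat.card W ∧
    ∀ u ∈ U, u ≠ 1 → Function.Bijective u

omit hab in
theorem adj_sq (f : W → W) : f * f = 1 := funext fun w => Subtype.ext (h.exp (f w).2)

theorem layer_is_centralizer {x : G} (hx : h.HasField hKW x) : C ≤ h.K := by
  classical
  intro c hc
  by_contra hcK
  obtain ⟨hxb, U, hU, -, -, hUcard, hUbij⟩ := hx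
  have hex : ∃ j, c ^ 2 ^ j ∈ h.K := by
    obtain ⟨N, hN⟩ := h.two c
    exact ⟨N, by rw [hN]; exact one_mem _⟩
  obtain ⟨i, hi⟩ : ∃ i, Nat.find hex = i + 1 :=
    Nat.exists_eq_succ_of_ne_zero fun e => hcK (by have := Nat.find_spec hex; simpa [e] using this)
  have hz2 := Nat.find_spec hex
  have hz : c ^ 2 ^ i ∉ h.K := Nat.find_min hex (by omega)
  rw [hi, pow_succ, pow_mul, pow_two] at hz2
  have hzC : c ^ 2 ^ i ∈ C := pow_mem hc _
  set z := c ^ 2 ^ i
  have hz4 : z * z * (z * z) ≠ 1 := fun e => hz (h.mem_K hKW hab hzC ((h.mem_iff _).mpr e))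
  have key : ∀ x1 x2, Function.Bijective (h.adj hKW x1) → Function.Bijective (h.adj hKW x2) →
      h.adj hKW x1 = h.adj hKW x2 := by
    intro x1 x2 h1 h2
    set w := x1 * x2
    have kill : ∀ v, v ∈ C → v * v ∈ h.K → cm w (v * v) = 1 := by
      intro v hv _
      obtain ⟨w2, hw2⟩ : ∃ w2 : W, x2 * v * x2⁻¹ = v⁻¹ * (w2 : G) :=
        ⟨⟨_, h.bij_inverts hKW hab h2 hv⟩, by group⟩
      obtain ⟨w1, hw1⟩ : ∃ w1 : W, x1 * v⁻¹ * x1⁻¹ = v * (w1 : G) :=
        ⟨⟨_, h.bij_inverts hKW hab h1 (inv_mem hv)⟩, by group⟩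
      have e : w * v * w⁻¹ = v * ((w1 * w2 : W) : G) := by
        have hx1 : x1 * (w2 : G) * x1⁻¹ = w2 := by rw [h.central _ w2.2 x1, mul_inv_cancel_right]
        calc w * v * w⁻¹ = x1 * (x2 * v * x2⁻¹) * x1⁻¹ := by simp only [w]; group
          _ = x1 * v⁻¹ * x1⁻¹ * (x1 * (w2 : G) * x1⁻¹) := by rw [hw2]; group
          _ = v * ((w1 * w2 : W) : G) := by rw [hw1, hx1, coe_mul, mul_assoc]
      have e2 : w * (v * v) * w⁻¹ = v * v := by
        have hc' := h.central _ (w1 * w2).2 v
        calc w * (v * v) * w⁻¹ = w * v * w⁻¹ * (w * v * w⁻¹) := by group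
          _ = v * (((w1 * w2 : W) : G) * v) * ((w1 * w2 : W) : G) := by rw [e]; group
          _ = v * v * (((w1 * w2 : W) : G) * ((w1 * w2 : W) : G)) := by rw [← hc']; group
          _ = v * v := by rw [h.exp (w1 * w2).2, mul_one]
      rw [cm, e2, mul_inv_cancel]
    have hw : h.adj hKW w = 1 := by
      funext v
      refine Subtype.ext ?_
      by_cases hv : (v : G) = 1
      · rw [h.adj_val hKW hab w (one_mem _) (by rw [hv, one_mul])]
        simp [cm]
      obtain ⟨y, -, hy⟩ := h.trans _ hz2.1 hz4 v v.2 hv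
      rw [map_mul, map_mul] at hy
      have hyC : y z ∈ C := mem_centralizer_iff.mpr fun k hk => by
        have := mem_centralizer_iff.mp hzC _ (h.K_map y.symm hk)
        have := congrArg y this
        simpa using this
      have hyK : y z * y z ∈ h.K := by rw [← map_mul]; exact h.K_map y hz2
      rw [h.adj_val hKW hab w hyK hy, kill _ hyC hyK]
      rfl
    rw [h.adj_mul hKW hab] at hw
    calc h.adj hKW x1 = h.adj hKW x1 * (h.adj hKW x2 * h.adj hKW x2) := by
          rw [h.adj_sq hKW, mul_one]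
      _ = h.adj hKW x2 := by rw [← mul_assoc, hw, one_mul]
  have hsub : U ⊆ {1, h.adj hKW x} := by
    intro u hu
    by_cases hu1 : u = 1
    · exact Or.inl hu1
    · obtain ⟨g, rfl⟩ := hU hu
      exact Or.inr (key g x (hUbij _ hu hu1) hxb)
  have h2 : Set.ncard U ≤ 2 := (Set.ncard_le_ncard hsub (Set.toFinite _)).trans
    ((Set.ncard_insert_le _ _).trans (by rw [Set.ncard_singleton]))
  have := h.card_W
  omega

theorem block_field {x : G} {ρ : W → W} (hρ : ∀ w : W, (ρ w : G) = φ w)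
    (hb : IsBlock ρ (Set.range (h.adj hKW)) (h.adj hKW x)) : h.HasField hKW x := by
  obtain ⟨hbij, ⟨k, ⟨a, ha⟩, hc⟩ | hU⟩ := hb
  · exfalso
    have key : ∀ (i : ℕ) (v : W), ((ρ^[i] v : W) : G) = (φ ^ i) v := by
      intro i
      induction i with
      | zero => intro v; rfl
      | succ i ih => intro v; rw [Function.iterate_succ_apply', hρ, ih v, pow_succ']; rfl
    refine h.no_commute hKW hab hbij (k := k) ⟨a, a.2, fun e => ha (Subtype.ext (by rw [key, e]))⟩
      fun w => ?_
    rw [← key k (h.adj hKW x w), ← hc w]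
    congr 2
    exact Subtype.ext (key k w).symm
  · exact ⟨hbij, hU⟩

theorem cm_mem {x x' : G} (hx : h.HasField hKW x) (hx' : Function.Bijective (h.adj hKW x')) :
    cm x x' ∈ W := by
  classical
  have hCK := h.layer_is_centralizer hKW hab hx
  have hcmC : ∀ a b : G, cm a b ∈ h.K := fun a b => hCK ((h.adj_eq_one hKW hab).mp (by
    have hone : h.adj hKW 1 = 1 := (h.adj_eq_one hKW hab).mpr (one_mem _)
    have hi : ∀ g, h.adj hKW g⁻¹ = h.adj hKW g := fun g => by
      calc h.adj hKW g⁻¹ = h.adj hKW g⁻¹ * (h.adj hKW g * h.adj hKW g) := by rw [h.adj_sq hKW, mul_one]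
        _ = h.adj hKW g := by rw [← mul_assoc, ← h.adj_mul hKW hab, inv_mul_cancel, hone, one_mul]
    funext w
    simp only [cm, h.adj_mul hKW hab, hi, Pi.mul_apply, Pi.one_apply]
    refine Subtype.ext ?_
    simp only [coe_mul, coe_one]
    set p := (h.adj hKW a w : G)
    set q := (h.adj hKW b w : G)
    have hp : p ∈ W := (h.adj hKW a w).2
    have hq : q ∈ W := (h.adj hKW b w).2
    rw [h.central q hq p, mul_assoc q p p, h.exp hp, mul_one, h.exp hq]))
  let T : G → G := fun g => cm g x' * cm g x'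
  have Tmul : ∀ a b, T (a * b) = T a * T b := by
    intro a b
    have e : cm (a * b) x' = a * cm b x' * a⁻¹ * cm a x' := by simp only [cm]; group
    have hk := hcmC b x'
    have hl := hcmC a x'
    have hk' : a * cm b x' * a⁻¹ ∈ h.K := h.K_normal.conj_mem _ hk a
    have e2 : a * cm b x' * a⁻¹ * (a * cm b x' * a⁻¹) = cm b x' * cm b x' := by
      rw [show a * cm b x' * a⁻¹ * (a * cm b x' * a⁻¹) = a * (cm b x' * cm b x') * a⁻¹ by group,
        h.central _ hk.1 a, mul_inv_cancel_right]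
    show cm (a * b) x' * cm (a * b) x' = cm a x' * cm a x' * (cm b x' * cm b x')
    rw [h.central _ hk.1, ← e2, e, mul_assoc, ← mul_assoc (cm a x'), hab _ hl _ hk']
    group
  have Tone : ∀ c ∈ h.K, T c = 1 := fun c hc => by
    have hm : cm c x' ∈ W := by
      rw [← Cfsg.Agent.Components.SmallScn.cm_inv]; exact inv_mem (hc.2 x')
    exact h.exp hm
  have Tker : ∀ a b, h.adj hKW a = h.adj hKW b → T a = T b := by
    intro a b e
    have hc : a⁻¹ * b ∈ h.K := hCK ((h.adj_eq_one hKW hab).mp (by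
      rw [h.adj_mul hKW hab, ← e, ← h.adj_mul hKW hab, inv_mul_cancel]
      exact (h.adj_eq_one hKW hab).mpr (one_mem _)))
    rw [show b = a * (a⁻¹ * b) by group, Tmul, Tone _ hc, mul_one]
  obtain ⟨hxb, U, hU, hxU, hUmul, hUcard, hUbij⟩ := hx
  have hsq' := h.bij_sq hKW hab hx'
  -- both adjoints fix the squared commutator
  have fixes : ∀ g, Function.Bijective (h.adj hKW g) →
      h.adj hKW g ⟨T g, (hcmC g x').1⟩ = ⟨T g, (hcmC g x').1⟩ ∧
      h.adj hKW x' ⟨T g, (hcmC g x').1⟩ = ⟨T g, (hcmC g x').1⟩ := by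
    intro g hg
    have hk := hcmC g x'
    set k := cm g x' with hkdef
    have hinv : ∀ y : G, y * k * y⁻¹ = k⁻¹ → cm y k = k * k := fun y hy => by
      rw [cm, hy, ← mul_inv_rev, h.inv_eq hk.1]
    have e1 : g * k * g⁻¹ = k⁻¹ := by
      have hc2 := h.central _ (h.bij_sq hKW hab hg) x'
      calc g * k * g⁻¹ = g * g * x' * g⁻¹ * x'⁻¹ * g⁻¹ := by simp only [hkdef, cm]; group
        _ = x' * (g * g) * g⁻¹ * x'⁻¹ * g⁻¹ := by rw [hc2]
        _ = k⁻¹ := by simp only [hkdef, cm]; group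
    have e2 : x' * k * x'⁻¹ = k⁻¹ := by
      have hc2 := h.central _ (inv_mem hsq') g⁻¹
      calc x' * k * x'⁻¹ = x' * g * x' * (g⁻¹ * (x' * x')⁻¹) := by simp only [hkdef, cm]; group
        _ = x' * g * x' * ((x' * x')⁻¹ * g⁻¹) := by rw [hc2]
        _ = k⁻¹ := by simp only [hkdef, cm]; group
    constructor
    · refine Subtype.ext ?_
      rw [h.adj_val hKW hab g hk rfl]
      exact hinv g e1
    · refine Subtype.ext ?_
      rw [h.adj_val hKW hab x' hk rfl]
      exact hinv x' e2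
  rw [h.mem_iff]
  show T x = 1
  by_contra hne
  have hx1 : h.adj hKW x ≠ 1 := fun e =>
    h.bij_not_mem hKW hab hxb ((h.adj_eq_one hKW hab).mp e)
  have hbij' : ∀ g, h.adj hKW g ∈ U → T g ≠ 1 → Function.Bijective (h.adj hKW g) := fun g hg hT =>
    hUbij _ hg fun e => hT (Tone _ (hCK ((h.adj_eq_one hKW hab).mp e)))
  have inj : ∀ g, h.adj hKW g ∈ U → T g = 1 → h.adj hKW g = 1 := by
    intro g hg hT
    by_contra hg1
    have hb := hUbij _ hg hg1
    have hT2 : T (g * x) = T x := by rw [Tmul, hT, one_mul]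
    have hmem : h.adj hKW (g * x) ∈ U := by rw [h.adj_mul hKW hab]; exact hUmul _ hg _ hxU
    have hb2 := hbij' _ hmem (by rw [hT2]; exact hne)
    have f1 := (fixes x hxb).1
    have f2 := (fixes (g * x) hb2).1
    have heq : (⟨T (g * x), (hcmC (g * x) x').1⟩ : W) = ⟨T x, (hcmC x x').1⟩ := Subtype.ext hT2
    rw [heq, h.adj_mul hKW hab, Pi.mul_apply, f1] at f2
    have f3 := mul_eq_right.mp f2
    have hone : h.adj hKW g 1 = 1 := by
      have := h.adj_hom hKW hab g 1 1
      rw [one_mul] at this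
      exact left_eq_mul.mp this
    exact hne (congrArg Subtype.val (hb.1 (f3.trans hone.symm)))
  let F : U → W := fun u => ⟨T (Classical.choose (hU u.2)), (hcmC _ x').1⟩
  have Fspec : ∀ u : U, h.adj hKW (Classical.choose (hU u.2)) = u := fun u => Classical.choose_spec (hU u.2)
  have Finj : Function.Injective F := by
    intro u u' e
    have e' := congrArg Subtype.val e
    simp only [F] at e'
    have hm : h.adj hKW (Classical.choose (hU u.2) * Classical.choose (hU u'.2)) ∈ U := by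
      rw [h.adj_mul hKW hab, Fspec, Fspec]; exact hUmul _ u.2 _ u'.2
    have h1 := inj _ hm (by rw [Tmul, e']; exact h.exp (hcmC _ x').1)
    rw [h.adj_mul hKW hab, Fspec, Fspec] at h1
    apply Subtype.ext
    calc (u : W → W) = u * ((u' : W → W) * u') := by rw [h.adj_sq hKW, mul_one]
      _ = u' := by rw [← mul_assoc, h1, one_mul]
  have Fsurj : Function.Surjective F :=
    (Finj.bijective_of_nat_card_le (by rw [Nat.card_coe_set_eq, hUcard])).2
  have hid : ∀ w : W, h.adj hKW x' w = w := by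
    intro w
    obtain ⟨u, hu⟩ := Fsurj w
    by_cases h1 : T (Classical.choose (hU u.2)) = 1
    · have hw : w = 1 := hu ▸ Subtype.ext h1
      rw [hw]
      have := h.adj_hom hKW hab x' 1 1
      rw [one_mul] at this
      exact left_eq_mul.mp this
    · have hg := hbij' _ (by rw [Fspec]; exact u.2) h1
      have := (fixes _ hg).2
      rw [← hu]
      exact this
  obtain ⟨a, ha, hφa⟩ := h.phi_move
  refine h.no_commute hKW hab hx' (k := 1) ⟨a, ha, by rw [pow_one]; exact hφa⟩ fun w => ?_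
  rw [hid, hid]

/-- An abelian layer is central. -/
theorem centralizer_eq_top : C = ⊤ := by
  classical
  by_contra hne
  obtain ⟨ρ, hρ, hfl⟩ := h.field
  have hadj1 : h.adj hKW 1 = 1 := (h.adj_eq_one hKW hab).mpr (one_mem _)
  have hsplit : ∀ P : (W → W) → Prop, P 1 → (∀ σ τ, P σ → P τ → P (σ * τ)) →
      (∀ x, h.HasField hKW x → P (h.adj hKW x)) → ∀ g, P (h.adj hKW g) := by
    intro P h1 hm hb g
    refine split hfl (Set.range (h.adj hKW)) ?_ ?_ ?_ P h1 hm ?_ _ ⟨g, rfl⟩
    · rintro _ ⟨x, rfl⟩; exact h.adj_hom hKW hab x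
    · rintro _ ⟨x, rfl⟩ _ ⟨y, rfl⟩; exact ⟨x * y, h.adj_mul hKW hab x y⟩
    · rintro _ ⟨x, rfl⟩ τ hτ
      refine ⟨φ x, funext fun w => ?_⟩
      have hsurj : Function.Surjective ρ := by
        refine Finite.surjective_of_injective fun a b e => ?_
        have := congrArg Subtype.val e
        rw [hρ, hρ] at this
        exact Subtype.ext (φ.injective this)
      obtain ⟨v, rfl⟩ := hsurj w
      refine Subtype.ext ?_
      rw [hτ, hρ]
      have h1 := h.adj_map hKW hab φ x v
      rw [← h1]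
      congr 2
      exact Subtype.ext (hρ v)
    · rintro _ ⟨x, rfl⟩ hblk
      exact hb x (h.block_field hKW hab hρ hblk)
  obtain ⟨x₀, hx₀⟩ : ∃ x, h.HasField hKW x := by
    by_contra! hno
    refine hne (eq_top_iff.mpr fun g _ => (h.adj_eq_one hKW hab).mp ?_)
    exact hsplit (fun σ => σ = 1) rfl (fun σ τ a b => by rw [a, b, one_mul])
      (fun x hx => absurd hx (hno x)) g
  have hCK := h.layer_is_centralizer hKW hab hx₀
  let S : Set G := (h.K : Set G) ∪ {x | h.HasField hKW x}
  have hgen : closure S = ⊤ := by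
    refine eq_top_iff.mpr fun g _ => ?_
    obtain ⟨x, hx, hxS⟩ := hsplit (fun σ => ∃ x, h.adj hKW x = σ ∧ x ∈ closure S)
      ⟨1, hadj1, one_mem _⟩
      (fun σ τ ⟨a, ha, haS⟩ ⟨b, hb, hbS⟩ => ⟨a * b, by rw [h.adj_mul hKW hab, ha, hb], mul_mem haS hbS⟩)
      (fun x hx => ⟨x, rfl, subset_closure (Or.inr hx)⟩) g
    have hc : x⁻¹ * g ∈ h.K := hCK ((h.adj_eq_one hKW hab).mp (by
      rw [h.adj_mul hKW hab, ← hx, ← h.adj_mul hKW hab, inv_mul_cancel, hadj1]))
    rw [show g = x * (x⁻¹ * g) by group]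
    exact mul_mem hxS (subset_closure (Or.inl hc))
  haveI := h.W_normal
  have comm : ∀ a ∈ S, ∀ b ∈ S, (QuotientGroup.mk a : G ⧸ W) * QuotientGroup.mk b
      = QuotientGroup.mk b * QuotientGroup.mk a := by
    intro a ha b hb
    have hm : cm a b ∈ W := by
      rcases hb with hb | hb
      · exact hb.2 a
      rcases ha with ha | ha
      · rw [← Cfsg.Agent.Components.SmallScn.cm_inv]; exact inv_mem (ha.2 b)
      · exact h.cm_mem hKW hab ha hb.1
    rw [← cm_eq_one_iff]
    show cm (QuotientGroup.mk' W a) (QuotientGroup.mk' W b) = 1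
    rw [← cm_map]
    exact (QuotientGroup.eq_one_iff _).mpr hm
  have comm1 : ∀ g : G, ∀ b ∈ S, (QuotientGroup.mk g : G ⧸ W) * QuotientGroup.mk b
      = QuotientGroup.mk b * QuotientGroup.mk g := by
    intro g b hb
    have hle : closure S ≤ (centralizer {(QuotientGroup.mk b : G ⧸ W)}).comap (QuotientGroup.mk' W) :=
      (closure_le _).mpr fun a ha => mem_comap.mpr (mem_centralizer_singleton_iff.mpr (comm a ha b hb))
    rw [hgen] at hle
    exact mem_centralizer_singleton_iff.mp (hle (mem_top g))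
  have comm2 : ∀ g g' : G, (QuotientGroup.mk g : G ⧸ W) * QuotientGroup.mk g'
      = QuotientGroup.mk g' * QuotientGroup.mk g := by
    intro g g'
    have hle : closure S ≤ (centralizer {(QuotientGroup.mk g : G ⧸ W)}).comap (QuotientGroup.mk' W) :=
      (closure_le _).mpr fun b hb => mem_comap.mpr (mem_centralizer_singleton_iff.mpr (comm1 g b hb).symm)
    rw [hgen] at hle
    exact (mem_centralizer_singleton_iff.mp (hle (mem_top g'))).symm
  have hsq : ∀ g : G, g * g ∈ W := by
    intro g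
    have hg : g ∈ closure S := by rw [hgen]; exact mem_top g
    induction hg using closure_induction with
    | mem a ha =>
      rcases ha with ha | ha
      · exact ha.1
      · exact h.bij_sq hKW hab ha.1
    | one => rw [one_mul]; exact one_mem W
    | mul a b _ _ ha hb =>
      rw [← QuotientGroup.eq_one_iff] at ha hb ⊢
      rw [QuotientGroup.mk_mul] at ha hb ⊢
      rw [QuotientGroup.mk_mul, mul_assoc, ← mul_assoc (QuotientGroup.mk b : G ⧸ W), comm2 b a,
        mul_assoc (QuotientGroup.mk a : G ⧸ W) (QuotientGroup.mk b), hb, mul_one, ha]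
    | inv a _ ha =>
      rw [← mul_inv_rev]
      exact inv_mem ha
  refine hne (eq_top_iff.mpr fun g _ => mem_centralizer_iff.mpr fun k hk => ?_)
  exact hab k hk g ⟨hsq g, fun y => cm_mem_of_sq h.central hsq y g⟩

end Setup

end Cfsg.Agent.Components.SuzukiTwo
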