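import Cfsg.Agent.Lib.Components.SuzukiTwo.Induction
import Cfsg.Agent.Lib.Hall.Solvable
import Cfsg.Agent.Lib.CharP.Basic
import Cfsg.Agent.Lib.Coprime.PGroup

/-!
Higman's theorem on non-abelian `2`-groups whose involutions are permuted transitively by a solvable
group of automorphisms.
-/

set_option autoImplicit false
set_option linter.all false

namespace Cfsg.Agent.Components.SuzukiTwo

open Subgroup
open Cfsg.Agent.Components.SmallScn (cm cm_eq_one_iff cm_map cm_mem_of_sq)

universe u

/-- An odd-order Hall subgroup of a transitive solvable group is transitive on an orbit of odd size. -/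
theorem hall_transitive {Y : Type*} [Group Y] [Finite Y] {S : Type*} [Finite S] [MulAction Y S]
    [MulAction.IsPretransitive Y S] (hS : Odd (Nat.card S)) {H : Subgroup Y}
    (hH : ∀ p : ℕ, p.Prime → p ∣ H.index → p = 2) : ∀ a b : S, ∃ y ∈ H, y • a = b := by
  intro a b
  set St := MulAction.stabilizer Y a
  have h1 : St.index = Nat.card S := MulAction.index_stabilizer_of_transitive Y a
  have h2 : (H ⊓ St).relIndex H * H.index = (H ⊓ St).index := relIndex_mul_index inf_le_left
  have h3 : Nat.card S ∣ (H ⊓ St).relIndex H * H.index := by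
    rw [h2, ← h1]; exact index_dvd_of_le inf_le_right
  have h4 : Nat.Coprime (Nat.card S) H.index := by
    refine Nat.coprime_of_dvd fun p hp hp1 hp2 => ?_
    rw [hH p hp hp2] at hp1
    exact hS.not_two_dvd_nat hp1
  have h5 := h4.dvd_of_dvd_mul_right h3
  have h6 : MulAction.stabilizer H a = St.subgroupOf H := rfl
  have h7 : Nat.card (MulAction.orbit H a) = (H ⊓ St).relIndex H := by
    rw [Nat.card_congr (MulAction.orbitEquivQuotientStabilizer H a), ← Subgroup.index_eq_card, h6,
      inf_relIndex_left]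
    rfl
  have h8 : Nat.card S ≤ Nat.card (MulAction.orbit H a) := by
    refine Nat.le_of_dvd ?_ (h7 ▸ h5)
    haveI : Nonempty (MulAction.orbit H a) := ⟨⟨a, MulAction.mem_orbit_self a⟩⟩
    exact Nat.card_pos
  have h9 : MulAction.orbit H a = Set.univ := Set.eq_of_subset_of_ncard_le (Set.subset_univ _)
    (by rw [Set.ncard_univ, ← Nat.card_coe_set_eq]; exact h8) (Set.toFinite _)
  have h10 : b ∈ MulAction.orbit H a := by rw [h9]; exact Set.mem_univ b
  obtain ⟨y, hy⟩ := h10
  exact ⟨y, y.2, hy⟩

theorem main {G : Type u} [Group G] [Finite G] (hG : IsPGroup 2 G) (hna : ¬ IsMulCommutative G)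
    (htwo : ∃ x y : G, x ≠ y ∧ x ≠ 1 ∧ x ^ 2 = 1 ∧ y ≠ 1 ∧ y ^ 2 = 1)
    (hY : ∃ Y : Subgroup (MulAut G), Group.IsSolvable Y ∧
      ∀ x y : G, x ≠ 1 → x ^ 2 = 1 → y ≠ 1 → y ^ 2 = 1 → ∃ a ∈ Y, a x = y) :
    commutator G = frattini G ∧ frattini G = Subgroup.center G ∧
      ∀ x : G, x ∈ Subgroup.center G ↔ x ^ 2 = 1 := by
  classical
  haveI : Fact (Nat.Prime 2) := ⟨Nat.prime_two⟩
  obtain ⟨x₁, x₂, h12, hx1, hx1', hx2, hx2'⟩ := htwo
  obtain ⟨Y, hYs, htr⟩ := hY
  haveI : Nontrivial G := ⟨⟨x₁, x₂, h12⟩⟩
  -- involutions are central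
  have hcen : ∀ t : G, t * t = 1 → t ∈ center G := by
    intro t ht
    by_cases ht1 : t = 1
    · rw [ht1]; exact one_mem _
    haveI := hG.center_nontrivial
    obtain ⟨m, hm⟩ := (hG.to_subgroup (center G)).exists_card_eq
    have h2 : 2 ∣ Nat.card (center G) := by
      rw [hm]
      refine dvd_pow_self 2 fun e => ?_
      have := Finite.one_lt_card (α := center G)
      rw [hm, e, pow_zero] at this
      omega
    obtain ⟨z, hz⟩ := exists_prime_orderOf_dvd_card' 2 h2
    have hz' : (z : G) ^ 2 = 1 := by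
      rw [← Subgroup.coe_pow, ← hz, pow_orderOf_eq_one]; rfl
    have hz1 : (z : G) ≠ 1 := fun e => by
      rw [show z = 1 from Subtype.ext e, orderOf_one] at hz
      omega
    obtain ⟨a, -, rfl⟩ := htr z t hz1 hz' ht1 (by rw [pow_two]; exact ht)
    refine mem_center_iff.mpr fun g => ?_
    have := congrArg a (mem_center_iff.mp z.2 (a.symm g))
    simpa using this
  let W : Subgroup G :=
    { carrier := {x | x * x = 1}
      one_mem' := one_mul 1
      mul_mem' := fun {a b} ha hb => by
        show a * b * (a * b) = 1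
        rw [mul_assoc, ← mul_assoc b, mem_center_iff.mp (hcen a ha) b, mul_assoc a b, ← mul_assoc a,
          show a * a = 1 from ha, one_mul]
        exact hb
      inv_mem' := fun {a} ha => by
        show a⁻¹ * a⁻¹ = 1
        rw [← mul_inv_rev, show a * a = 1 from ha, inv_one] }
  have hWi : ∀ x : G, x ∈ W ↔ x * x = 1 := fun x => Iff.rfl
  have hWc : ∀ w ∈ W, ∀ z : G, z * w = w * z := fun w hw z => mem_center_iff.mp (hcen w hw) z
  have hWmap : ∀ (a : MulAut G) (w : G), w ∈ W → a w ∈ W := fun a w hw => by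
    rw [hWi, ← map_mul, (hWi w).mp hw, map_one]
  have hcard : 4 ≤ Nat.card W := by
    have h3 : ({1, x₁, x₂} : Set G) ⊆ (W : Set G) := by
      rintro x (rfl | rfl | rfl)
      · exact one_mem W
      · exact (hWi _).mpr (by rw [← pow_two]; exact hx1')
      · exact (hWi _).mpr (by rw [← pow_two]; exact hx2')
    have h4 := Set.ncard_le_ncard h3 (Set.toFinite _)
    rw [Set.ncard_eq_three.mpr ⟨1, x₁, x₂, hx1.symm, hx2.symm, h12, rfl⟩, ← Nat.card_coe_set_eq] at h4
    obtain ⟨m, hm⟩ := (hG.to_subgroup W).exists_card_eq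
    have h5 : 3 ≤ 2 ^ m := hm ▸ h4
    rw [hm]
    calc 4 = 2 ^ 2 := by norm_num
      _ ≤ 2 ^ m := Nat.pow_le_pow_right (by norm_num) (by
          by_contra hlt
          have : 2 ^ m ≤ 2 ^ 1 := Nat.pow_le_pow_right (by norm_num) (by omega)
          omega)
  -- an odd transitive subgroup
  let rest : MulAut G →* MulAut W :=
    { toFun := fun a =>
        { toFun := fun w => ⟨a w, hWmap a w w.2⟩
          invFun := fun w => ⟨a.symm w, hWmap a.symm w w.2⟩
          left_inv := fun w => Subtype.ext (a.symm_apply_apply _)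
          right_inv := fun w => Subtype.ext (a.apply_symm_apply _)
          map_mul' := fun v w => Subtype.ext (map_mul a (v : G) w) }
      map_one' := MulEquiv.ext fun w => Subtype.ext rfl
      map_mul' := fun a b => MulEquiv.ext fun w => Subtype.ext rfl }
  let S := {w : W // w ≠ 1}
  letI : MulAction Y S :=
    { smul := fun y s => ⟨rest (y : MulAut G) s.1, fun e => s.2 ((rest (y : MulAut G)).injective (e.trans (map_one _).symm))⟩
      one_smul := fun s => Subtype.ext (by show rest ((1 : Y) : MulAut G) s.1 = s.1; rw [coe_one, map_one]; rfl)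
      mul_smul := fun a b s => Subtype.ext (by
        show rest ((a * b : Y) : MulAut G) s.1 = rest (a : MulAut G) (rest (b : MulAut G) s.1)
        rw [coe_mul, map_mul]; rfl) }
  haveI : MulAction.IsPretransitive Y S := ⟨fun s t => by
    obtain ⟨a, ha, e⟩ := htr (s.1 : G) (t.1 : G) (fun e => s.2 (Subtype.ext e))
      (by rw [pow_two]; exact (hWi _).mp s.1.2) (fun e => t.2 (Subtype.ext e))
      (by rw [pow_two]; exact (hWi _).mp t.1.2)
    exact ⟨⟨a, ha⟩, Subtype.ext (Subtype.ext e)⟩⟩
  have hSodd : Odd (Nat.card S) := by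
    obtain ⟨m, hm⟩ := (hG.to_subgroup W).exists_card_eq
    haveI := Fintype.ofFinite W
    have : Nat.card S = Nat.card W - 1 := by
      rw [Nat.card_eq_fintype_card, Fintype.card_subtype_compl, Fintype.card_subtype_eq,
        ← Nat.card_eq_fintype_card]
    rw [this, hm]
    refine Nat.Even.sub_odd Nat.one_le_two_pow ((Nat.even_pow).mpr ⟨even_two, ?_⟩) odd_one
    rintro rfl
    rw [hm] at hcard
    omega
  haveI : Group.IsSolvable Y := hYs
  obtain ⟨H, hH⟩ := Cfsg.Agent.Hall.exists_hall {p : ℕ | p ≠ 2} Y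
  have hHodd : Odd (Nat.card H) := by
    by_contra he
    exact hH.1 2 Nat.prime_two (Nat.not_odd_iff_even.mp he).two_dvd rfl
  have hHtr := hall_transitive (S := S) hSodd (H := H) fun p hp hd => by
    by_contra hne
    exact hH.2 p hp hne hd
  let D : Subgroup (MulAut W) := (H.map Y.subtype).map rest
  letI : DistribMulAction D (Additive W) :=
    { smul := fun d x => Additive.ofMul ((d : MulAut W) x.toMul)
      one_smul := fun x => rfl
      mul_smul := fun a b x => rfl
      smul_zero := fun d => congrArg Additive.ofMul (map_one (d : MulAut W))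
      smul_add := fun d x y => congrArg Additive.ofMul (map_mul (d : MulAut W) x.toMul y.toMul) }
  haveI : FaithfulSMul D (Additive W) := ⟨fun {a b} e => Subtype.ext (MulEquiv.ext fun w =>
    Additive.ofMul.injective (e (Additive.ofMul w)))⟩
  haveI : Nontrivial (Additive W) := by
    haveI : Nontrivial W := Finite.one_lt_card_iff_nontrivial.mp (by omega)
    infer_instance
  letI : AddCommGroup (Additive W) :=
    { (inferInstance : AddGroup (Additive W)) with
      add_comm := fun a b => Additive.toMul.injective (Subtype.ext (hWc _ b.toMul.2 _)) }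
  have hHsol : Group.IsSolvable (H.map Y.subtype) :=
    Group.isSolvable_of_surjective (f := Y.subtype.subgroupMap H) (MonoidHom.subgroupMap_surjective _ _)
  haveI : Group.IsSolvable D :=
    Group.isSolvable_of_surjective (f := rest.subgroupMap (H.map Y.subtype))
      (MonoidHom.subgroupMap_surjective _ _)
  have hcardH : Nat.card (H.map Y.subtype) = Nat.card H :=
    (Nat.card_congr (H.equivMapOfInjective Y.subtype Y.subtype_injective).toEquiv).symm
  have hDodd : Odd (Nat.card D) := by
    have h1 : Nat.card D ∣ Nat.card (H.map Y.subtype) := Subgroup.card_map_dvd _ _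
    exact (hcardH ▸ hHodd).of_dvd_nat h1
  obtain ⟨R, iR, ξ, l, e, n, f, hfin, hchar, he, hn, hn2, hfn, hdvd, hgen⟩ :=
    exists_field (D := D) (E := Additive W) hDodd
      (fun x => by
        rw [two_nsmul]
        exact Additive.toMul.injective (Subtype.ext ((hWi _).mp x.toMul.2)))
      (fun a b ha hb => by
        obtain ⟨y, hy, hy'⟩ := hHtr ⟨a.toMul, fun e => ha (Additive.toMul.injective e)⟩
          ⟨b.toMul, fun e => hb (Additive.toMul.injective e)⟩
        exact ⟨⟨rest (y : MulAut G), mem_map_of_mem _ (mem_map_of_mem _ hy)⟩,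
          Additive.toMul.injective (congrArg Subtype.val hy')⟩)
      (by rwa [Nat.card_congr Additive.toMul])
  obtain ⟨φ, hφH, hφ⟩ := ξ.2
  have hφodd : Odd (orderOf φ) := by
    have h1 := Subgroup.orderOf_dvd_natCard _ hφH
    rw [hcardH] at h1
    exact hHodd.of_dvd_nat h1
  have hset : Setup W Y φ R := by
    refine ⟨hG, hWi, hWc, fun a ha ha1 b hb hb1 => htr a b ha1 (by rw [pow_two]; exact (hWi a).mp ha)
      hb1 (by rw [pow_two]; exact (hWi b).mp hb), hφodd, fun w => (ξ : MulAut W) w, ?_, ?_⟩
    · intro w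
      rw [← hφ]
      rfl
    · exact ⟨hfin, hchar, l, Additive.ofMul.trans e.toEquiv, n, f, fun a b => map_add e _ _,
        fun a => he (Additive.ofMul a), hn, hn2, hfn, hdvd, hgen⟩
  rcases hset.comm_or_sq with hcomm | hsq
  · exact absurd ⟨⟨hcomm⟩⟩ hna
  have hcm : ∀ a b : G, cm a b ∈ W := fun a b => cm_mem_of_sq hWc hsq a b
  have hle : commutator G ≤ W := by
    rw [_root_.commutator_def, commutator_le]
    intro a _ b _
    exact hcm a b
  have hge : W ≤ commutator G := by
    intro w hw
    by_cases hw1 : w = 1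
    · rw [hw1]; exact one_mem _
    obtain ⟨a, b, hab⟩ : ∃ a b : G, cm a b ≠ 1 := by
      by_contra! hall
      exact hna ⟨⟨fun a b => cm_eq_one_iff.mp (hall a b)⟩⟩
    obtain ⟨y, -, rfl⟩ := hset.trans _ (hcm a b) hab w hw hw1
    rw [cm_map y, _root_.commutator_def]
    exact commutator_mem_commutator (mem_top _) (mem_top _)
  have hW : commutator G = W := le_antisymm hle hge
  haveI : W.Normal := hset.W_normal
  have hΦ : frattini G = W := by
    haveI := hG.isNilpotent
    refine le_antisymm ?_ (hge.trans (Cfsg.Agent.Coprime.commutator_le_frattini G))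
    have := Cfsg.Agent.CharP.frattini_le_ker (p := 2) (QuotientGroup.mk' W) (fun a b => by
      show QuotientGroup.mk' W a * QuotientGroup.mk' W b = QuotientGroup.mk' W b * QuotientGroup.mk' W a
      rw [← cm_eq_one_iff, ← cm_map (QuotientGroup.mk' W)]
      exact (QuotientGroup.eq_one_iff _).mpr (hcm a b)) (fun a => by
      rw [pow_two, ← map_mul]
      exact (QuotientGroup.eq_one_iff _).mpr (hsq a))
    rwa [QuotientGroup.ker_mk'] at this
  have hZ : center G = W := by
    refine le_antisymm (fun z hz => ?_) (fun w hw => hcen w hw)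
    by_contra hzW
    refine hna ⟨⟨fun x g => ?_⟩⟩
    by_cases hx1 : x * x = 1
    · exact (hWc x hx1 g).symm
    obtain ⟨y, -, hy⟩ := hset.trans _ (hsq z) (fun e => hzW ((hWi z).mpr e)) _ (hsq x) hx1
    have hyz : y z ∈ center G := mem_center_iff.mpr fun g => by
      have := congrArg y (mem_center_iff.mp hz (y.symm g))
      simpa using this
    rw [map_mul] at hy
    have hm := hset.mul_inv_mem ((mem_center_iff.mp hyz x).symm) hy
    have hxc : x ∈ center G := by
      rw [show x = (y z * x⁻¹)⁻¹ * y z by group]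
      exact mul_mem (inv_mem (hcen _ hm)) hyz
    exact (mem_center_iff.mp hxc g).symm
  refine ⟨hW.trans hΦ.symm, hΦ.trans hZ.symm, fun x => ?_⟩
  rw [hZ, hWi, pow_two]

end Cfsg.Agent.Components.SuzukiTwo
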