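import Cfsg.Agent.Lib.Components.SuzukiTwo.Arith
import Cfsg.Agent.Lib.Components.SuzukiTwo.Field

/-!
An invariant group of endomorphisms of a field-like four-plus group splits into semilinear maps.
-/

set_option autoImplicit false
set_option linter.all false

namespace Cfsg.Agent.Components.SuzukiTwo

open Polynomial

universe u v

/-- The semilinear building blocks inside an invariant set of endomorphisms. -/
def IsBlock {W : Type v} [Mul W] [One W] (φ : W → W) (𝒱 : Set (W → W)) (τ : W → W) : Prop :=
  Function.Bijective τ ∧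
    ((∃ k, (∃ a, φ^[k] a ≠ a) ∧ ∀ a, τ (φ^[k] a) = φ^[k] (τ a)) ∨
      ∃ U ⊆ 𝒱, τ ∈ U ∧ (∀ u ∈ U, ∀ u' ∈ U, u * u' ∈ U) ∧ Set.ncard U = Nat.card W ∧
        ∀ u ∈ U, u ≠ 1 → Function.Bijective u)

theorem conj_root {R : Type u} [Field R] [Fintype R] [CharP R 2] [Algebra (ZMod 2) R] {n : ℕ}
    (hn : Nat.card R = 2 ^ n) {x y : R} (h : aeval y (minpoly (ZMod 2) x) = 0) :
    ∃ a, a < n ∧ y = x ^ 2 ^ a := by
  haveI : Fact (Nat.Prime 2) := ⟨Nat.prime_two⟩
  have hx : IsIntegral (ZMod 2) x := IsIntegral.of_finite (ZMod 2) x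
  obtain ⟨σ, hσ⟩ := minpoly.exists_algEquiv_of_root' hx.isAlgebraic h
  obtain ⟨⟨a, ha⟩, rfl⟩ := (FiniteField.bijective_frobeniusAlgEquivOfAlgebraic_pow (ZMod 2) R).2 σ
  have hfin : Module.finrank (ZMod 2) R = n := by
    have h' := Module.card_eq_pow_finrank (K := ZMod 2) (V := R)
    rw [ZMod.card, ← Nat.card_eq_fintype_card, hn] at h'
    exact (Nat.pow_right_injective le_rfl h').symm
  refine ⟨a, hfin ▸ ha, ?_⟩
  rw [← hσ]
  show ((FiniteField.frobeniusAlgEquivOfAlgebraic (ZMod 2) R) ^ a) x = x ^ 2 ^ a
  rw [AlgEquiv.coe_pow, FiniteField.coe_frobeniusAlgEquivOfAlgebraic_iterate, ZMod.card]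

theorem split {W : Type v} [Group W] [Finite W] {R : Type u} [Field R] {φ : W → W}
    (hfl : FieldLike φ R) (𝒱 : Set (W → W)) (hhom : ∀ σ ∈ 𝒱, ∀ a b, σ (a * b) = σ a * σ b)
    (hmul : ∀ σ ∈ 𝒱, ∀ τ ∈ 𝒱, σ * τ ∈ 𝒱)
    (hconj : ∀ σ ∈ 𝒱, ∀ τ : W → W, (∀ a, τ (φ a) = φ (σ a)) → τ ∈ 𝒱)
    (P : (W → W) → Prop) (h1 : P 1) (hPmul : ∀ σ τ, P σ → P τ → P (σ * τ))
    (hblock : ∀ τ ∈ 𝒱, IsBlock φ 𝒱 τ → P τ) : ∀ σ ∈ 𝒱, P σ := by
  classical
  obtain ⟨hfin, hchar, l, e, n, f, hadd, hφ, hn, hn2, hfn, hdvd, hgen⟩ := hfl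
  haveI := hfin
  haveI := hchar
  haveI := Fintype.ofFinite R
  haveI : Fact (Nat.Prime 2) := ⟨Nat.prime_two⟩
  letI : Algebra (ZMod 2) R := ZMod.algebra R 2
  intro σ₀ hσ₀
  have hfin' : Module.finrank (ZMod 2) R = n := by
    have h' := Module.card_eq_pow_finrank (K := ZMod 2) (V := R)
    rw [ZMod.card, ← Nat.card_eq_fintype_card, hn] at h'
    exact (Nat.pow_right_injective le_rfl h').symm
  have he1 : e 1 = 0 := by
    have h := hadd 1 1
    rw [one_mul] at h
    exact left_eq_add.mp h
  have esymm : ∀ x y, e.symm (x + y) = e.symm x * e.symm y := fun x y =>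
    e.injective (by rw [hadd, e.apply_symm_apply, e.apply_symm_apply, e.apply_symm_apply])
  have esymm0 : e.symm 0 = 1 := by rw [← he1, e.symm_apply_apply]
  -- the semilinear coordinates
  let S : (Fin n → R) → R → R := fun α x => ∑ s, α s * x ^ 2 ^ (s : ℕ)
  have S_add : ∀ α x y, S α (x + y) = S α x + S α y := fun α x y => by
    simp only [S, add_pow_char_pow, mul_add, Finset.sum_add_distrib]
  have S_sum : ∀ α β x, S (α + β) x = S α x + S β x := fun α β x => by
    simp only [S, Pi.add_apply, add_mul, Finset.sum_add_distrib]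
  have S_inj : Function.Injective S := by
    intro α β h
    funext s
    by_contra hne
    set p : R[X] := ∑ t : Fin n, Polynomial.C (α t - β t) * Polynomial.X ^ 2 ^ (t : ℕ) with hp
    have hdeg : p.natDegree ≤ 2 ^ (n - 1) := by
      refine Polynomial.natDegree_sum_le_of_forall_le _ _ fun t _ => ?_
      refine (Polynomial.natDegree_C_mul_X_pow_le _ _).trans (Nat.pow_le_pow_right (by norm_num) ?_)
      have := t.2; omega
    have hp0 : p = 0 := by
      refine Polynomial.eq_zero_of_natDegree_lt_card_of_eval_eq_zero p Function.injective_id (fun x => ?_) ?_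
      · have hx := congrFun h x
        simp only [S] at hx
        simp only [hp, id, Polynomial.eval_finsetSum, Polynomial.eval_mul, Polynomial.eval_C,
          Polynomial.eval_pow, Polynomial.eval_X, sub_mul, Finset.sum_sub_distrib, hx, sub_self]
      · rw [← Nat.card_eq_fintype_card, hn]
        exact hdeg.trans_lt (Nat.pow_lt_pow_right (by norm_num) (by omega))
    have hc := congrArg (fun q : R[X] => q.coeff (2 ^ (s : ℕ))) hp0
    simp only [hp, Polynomial.finsetSum_coeff, Polynomial.coeff_zero] at hc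
    rw [Finset.sum_eq_single s] at hc
    · rw [Polynomial.coeff_C_mul_X_pow, if_pos rfl, sub_eq_zero] at hc
      exact hne hc
    · intro t _ hts
      rw [Polynomial.coeff_C_mul_X_pow, if_neg]
      exact fun e => hts (Fin.ext (Nat.pow_right_injective le_rfl e).symm)
    · simp
  have S_surj : ∀ σ : R → R, (∀ x y, σ (x + y) = σ x + σ y) → ∃ α, S α = σ := by
    let Hom := {σ : R → R // ∀ x y, σ (x + y) = σ x + σ y}
    let b := Module.finBasisOfFinrankEq (ZMod 2) R hfin'
    let ev : Hom → (Fin n → R) := fun σ i => σ.1 (b i)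
    have ev_inj : Function.Injective ev := by
      intro σ τ h
      apply Subtype.ext
      have hl : (AddMonoidHom.mk' σ.1 σ.2).toZModLinearMap 2 = (AddMonoidHom.mk' τ.1 τ.2).toZModLinearMap 2 :=
        b.ext fun i => congrFun h i
      exact funext fun x => congrArg (fun g => g x) hl
    let Sh : (Fin n → R) → Hom := fun α => ⟨S α, S_add α⟩
    have hb : Function.Bijective Sh :=
      Function.Injective.bijective_of_nat_card_le (fun α β h => S_inj (congrArg Subtype.val h))
        (Nat.card_le_card_of_injective ev ev_inj)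
    intro σ hσ
    obtain ⟨α, hα⟩ := hb.2 ⟨σ, hσ⟩
    exact ⟨α, congrArg Subtype.val hα⟩
  let T : (Fin n → R) → W → W := fun α a => e.symm (S α (e a))
  have T_add : ∀ α β, T (α + β) = T α * T β := fun α β => funext fun a => by
    simp only [T, Pi.mul_apply, S_sum, esymm]
  have T_zero : T 0 = 1 := funext fun a => by
    simp only [T, S, Pi.zero_apply, zero_mul, Finset.sum_const_zero, esymm0, Pi.one_apply]
  have T_surj : ∀ σ ∈ 𝒱, ∃ α, T α = σ := fun σ hσ => by
    obtain ⟨α, hα⟩ := S_surj (fun x => e (σ (e.symm x))) fun x y => by rw [esymm, hhom σ hσ, hadd]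
    exact ⟨α, funext fun a => by simp only [T, hα, e.symm_apply_apply]⟩
  let V : Set (Fin n → R) := {α | T α ∈ 𝒱}
  have V_add : ∀ α ∈ V, ∀ β ∈ V, α + β ∈ V := fun α hα β hβ => by
    show T (α + β) ∈ 𝒱
    rw [T_add]
    exact hmul _ hα _ hβ
  have hone : (1 : W → W) ∈ 𝒱 := by
    obtain ⟨α, rfl⟩ := T_surj σ₀ hσ₀
    have h2 : α + α = 0 := funext fun s => CharTwo.add_self_eq_zero (α s)
    have := hmul _ hσ₀ _ hσ₀
    rwa [← T_add, h2, T_zero] at this
  have V_zero : (0 : Fin n → R) ∈ V := by show T 0 ∈ 𝒱; rw [T_zero]; exact hone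
  -- the weights
  let η : Fin n → Rˣ := fun s => l * (l⁻¹) ^ 2 ^ (s : ℕ)
  have V_mul : ∀ α ∈ V, (fun s => (η s : R) * α s) ∈ V := by
    intro α hα
    refine hconj _ hα _ fun a => e.injective ?_
    simp only [T, e.apply_symm_apply, hφ, S, η, Finset.mul_sum]
    refine Finset.sum_congr rfl fun s _ => ?_
    have h1 : ((l⁻¹ : Rˣ) : R) ^ 2 ^ (s : ℕ) * (l : R) ^ 2 ^ (s : ℕ) = 1 := by
      rw [← mul_pow, Units.inv_mul, one_pow]
    rw [Units.val_mul, Units.val_pow_eq_pow_val, mul_pow]
    calc (l : R) * ((l⁻¹ : Rˣ) : R) ^ 2 ^ (s : ℕ) * α s * ((l : R) ^ 2 ^ (s : ℕ) * e a ^ 2 ^ (s : ℕ))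
        = (l : R) * (α s * e a ^ 2 ^ (s : ℕ)) * (((l⁻¹ : Rˣ) : R) ^ 2 ^ (s : ℕ) * (l : R) ^ 2 ^ (s : ℕ)) := by
          ring
      _ = _ := by rw [h1, mul_one]
  have V_poly : ∀ p : (ZMod 2)[X], ∀ α ∈ V, (fun s => aeval (η s : R) p * α s) ∈ V := by
    intro p
    induction p using Polynomial.induction_on with
    | C c =>
      intro α hα
      rcases zmod_two_cases c with rfl | rfl
      · simpa [Pi.zero_def] using V_zero
      · simpa using hα
    | add p q hp hq =>
      intro α hα
      have := V_add _ (hp α hα) _ (hq α hα)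
      simpa [add_mul, Pi.add_def] using this
    | monomial j c ih =>
      intro α hα
      have := V_mul _ (ih α hα)
      convert this using 1
      funext s
      simp [pow_succ]
      ring
  have hlm : orderOf l ∣ 2 ^ n - 1 := by
    rw [← hn, ← Nat.card_units]
    exact orderOf_dvd_natCard l
  have hln : l ^ 2 ^ n = l := by
    rw [show 2 ^ n = 2 ^ n - 1 + 1 by have := Nat.one_le_two_pow (n := n); omega, pow_succ,
      orderOf_dvd_iff_pow_eq_one.mp hlm, one_mul]
  have distinct : ∀ s t : Fin n, aeval (η t : R) (minpoly (ZMod 2) (η s : R)) = 0 → t = s := by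
    intro s t h
    obtain ⟨a, ha, hat⟩ := conj_root hn h
    have hu : η t = η s ^ 2 ^ a := Units.ext (by rw [Units.val_pow_eq_pow_val]; exact hat)
    simp only [η, inv_pow, mul_pow, ← pow_mul, ← pow_add] at hu
    rw [mul_inv_eq_iff_eq_mul] at hu
    have h' : l ^ (2 ^ ((a + s) % n) + 1) = l ^ (2 ^ a + 2 ^ (t : ℕ)) := by
      rw [pow_add l, ← pow_two_pow_mod hln, pow_one, pow_add l, show a + (s : ℕ) = (s : ℕ) + a by ring]
      conv_lhs => arg 2; rw [hu]
      rw [mul_comm (l ^ 2 ^ ((s : ℕ) + a)), mul_right_comm, inv_mul_cancel_right]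
    have hsep := sep hn2 hlm hfn hdvd ha t.2 (Nat.mod_lt _ (by omega)) h'.symm
    exact Fin.ext ((Nat.ModEq.add_left_cancel' a hsep).eq_of_lt_of_lt t.2 s.2)
  have V_single : ∀ α ∈ V, ∀ s, Pi.single s (α s) ∈ V := by
    intro α hα s
    let Q : (ZMod 2)[X] := ∏ t ∈ Finset.univ.erase s, minpoly (ZMod 2) (η t : R)
    have hQ0 : ∀ t, t ≠ s → aeval (η t : R) Q = 0 := fun t ht => by
      rw [map_prod]
      exact Finset.prod_eq_zero (Finset.mem_erase.mpr ⟨ht, Finset.mem_univ t⟩) (minpoly.aeval _ _)
    have hQs : aeval (η s : R) Q ≠ 0 := by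
      rw [map_prod, Finset.prod_ne_zero_iff]
      intro t ht h0
      exact (Finset.ne_of_mem_erase ht) (distinct t s h0).symm
    have := V_poly (Q ^ (Fintype.card R - 1)) α hα
    convert this using 1
    funext t
    by_cases hts : t = s
    · subst hts
      rw [Pi.single_eq_same, map_pow, FiniteField.pow_card_sub_one_eq_one _ hQs, one_mul]
    · rw [Pi.single_eq_of_ne hts, map_pow, hQ0 t hts, zero_pow (by have := Fintype.one_lt_card (α := R); omega),
        zero_mul]
  have S_single : ∀ (s : Fin n) (c x : R), S (Pi.single s c) x = c * x ^ 2 ^ (s : ℕ) := fun s c x => by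
    simp only [S]
    rw [Finset.sum_eq_single s (fun t _ ht => by rw [Pi.single_eq_of_ne ht, zero_mul]) (by simp),
      Pi.single_eq_same]
  have bij_single : ∀ (s : Fin n) (c : R), c ≠ 0 → Function.Bijective (T (Pi.single s c)) := by
    intro s c hc
    refine Finite.injective_iff_bijective.mp fun a b h => e.injective ?_
    have h' := e.symm.injective h
    rw [S_single, S_single] at h'
    have := mul_left_cancel₀ hc h'
    exact iterateFrobenius_inj R 2 (s : ℕ) (by simpa [iterateFrobenius_def] using this)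
  have P_single : ∀ α ∈ V, ∀ s, P (T (Pi.single s (α s))) := by
    intro α hα s
    by_cases hc : α s = 0
    · rw [hc, Pi.single_zero, T_zero]; exact h1
    refine hblock _ (V_single α hα s) ⟨bij_single s _ hc, ?_⟩
    by_cases hs : orderOf (η s) = orderOf l
    · right
      have hzp : l ∈ Submonoid.powers (η s) := by
        rw [(isOfFinOrder_of_finite (η s)).mem_powers_iff_mem_zpowers]
        have hsub : Subgroup.zpowers (η s) ≤ Subgroup.zpowers l :=
          Subgroup.zpowers_le.mpr (mul_mem (Subgroup.mem_zpowers l) (pow_mem (inv_mem (Subgroup.mem_zpowers l)) _))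
        rw [Subgroup.eq_of_le_of_card_ge hsub (by rw [Nat.card_zpowers, Nat.card_zpowers, hs])]
        exact Subgroup.mem_zpowers l
      obtain ⟨j, hj⟩ := hzp
      let A : Subalgebra (ZMod 2) R := Algebra.adjoin (ZMod 2) {(η s : R)}
      have hlA : (l : R) ∈ A := by
        rw [← hj]
        simp only [Units.val_pow_eq_pow_val]
        exact pow_mem (Algebra.subset_adjoin (Set.mem_singleton _)) j
      haveI : Fintype A := Fintype.ofFinite A
      letI : Field A := (Finite.isDomain_to_isField A).toField
      have hA : A = ⊤ := by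
        obtain ⟨a, ha⟩ : ∃ a, Fintype.card A = 2 ^ a :=
          ⟨Module.finrank (ZMod 2) A, by rw [Module.card_eq_pow_finrank (K := ZMod 2), ZMod.card]⟩
        have hpow : (⟨(l : R), hlA⟩ : A) ^ 2 ^ a = ⟨(l : R), hlA⟩ := by
          rw [← ha]; exact FiniteField.pow_card _
        have h2 := congrArg Subtype.val hpow
        simp only [SubmonoidClass.coe_pow] at h2
        by_cases han : a < n
        · exfalso
          have := Fintype.one_lt_card (α := A)
          rw [ha, hgen a han h2] at this
          norm_num at this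
        · apply SetLike.coe_injective
          refine Set.eq_of_subset_of_ncard_le (Set.subset_univ _) ?_ (Set.toFinite _)
          rw [Algebra.coe_top, Set.ncard_univ, hn, ← Nat.card_coe_set_eq, SetLike.coe_sort_coe,
            Nat.card_eq_fintype_card, ha]
          exact Nat.pow_le_pow_right (by norm_num) (by omega)
      refine ⟨Set.range fun c : R => T (Pi.single s c), ?_, ⟨α s, rfl⟩, ?_, ?_, ?_⟩
      · rintro _ ⟨c, rfl⟩
        have hmem : c * (α s)⁻¹ ∈ A := by rw [hA]; exact Algebra.mem_top
        change _ ∈ Algebra.adjoin (ZMod 2) {(η s : R)} at hmem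
        rw [Algebra.adjoin_singleton_eq_range_aeval] at hmem
        obtain ⟨p, hp⟩ := hmem
        have := V_poly p _ (V_single α hα s)
        show (Pi.single s c : Fin n → R) ∈ V
        convert this using 1
        funext t
        by_cases hts : t = s
        · subst hts
          rw [Pi.single_eq_same, Pi.single_eq_same]
          simp only [AlgHom.toRingHom_eq_coe, RingHom.coe_coe] at hp
          rw [hp, inv_mul_cancel_right₀ hc]
        · rw [Pi.single_eq_of_ne hts, Pi.single_eq_of_ne hts, mul_zero]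
      · rintro _ ⟨c, rfl⟩ _ ⟨c', rfl⟩
        exact ⟨c + c', by simp only [Pi.single_add, T_add]⟩
      · rw [Set.ncard_range_of_injective, Nat.card_congr e]
        intro c c' h
        have hS : S (Pi.single s c) = S (Pi.single s c') := funext fun x => by
          have := congrFun h (e.symm x)
          simp only [T, e.apply_symm_apply] at this
          exact e.symm.injective this
        simpa using congrFun (S_inj hS) s
      · rintro _ ⟨c, rfl⟩ hne
        exact bij_single s c fun h0 => hne (by simp only [h0, Pi.single_zero, T_zero])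
    · left
      refine ⟨orderOf (η s), ?_, ?_⟩
      · refine ⟨e.symm 1, fun h => hs (Nat.dvd_antisymm ?_ (orderOf_dvd_of_pow_eq_one ?_))⟩
        · refine orderOf_dvd_of_pow_eq_one ?_
          simp only [η, mul_pow, ← pow_mul, mul_comm (2 ^ (s : ℕ)) (orderOf l), pow_mul,
            inv_pow, pow_orderOf_eq_one, inv_one, one_pow, one_mul]
          rw [← pow_mul, mul_comm, pow_mul, pow_orderOf_eq_one, one_pow, inv_one]
        · have key : ∀ k a, e (φ^[k] a) = (l : R) ^ k * e a := by
            intro k
            induction k with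
            | zero => simp
            | succ k ih => intro a; rw [Function.iterate_succ_apply', hφ, ih, pow_succ']; ring
          have := congrArg e h
          rw [key, e.apply_symm_apply, mul_one] at this
          exact Units.ext (by rw [Units.val_pow_eq_pow_val]; exact this)
      · intro a
        have key : ∀ k a, e (φ^[k] a) = (l : R) ^ k * e a := by
          intro k
          induction k with
          | zero => simp
          | succ k ih => intro a; rw [Function.iterate_succ_apply', hφ, ih, pow_succ']; ring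
        refine e.injective ?_
        set k := orderOf (η s)
        simp only [T, e.apply_symm_apply, key, S_single]
        have hk : η s ^ k = 1 := pow_orderOf_eq_one _
        simp only [η, mul_pow, inv_pow, mul_inv_eq_one] at hk
        have hk' : ((l : R) ^ k) ^ 2 ^ (s : ℕ) = (l : R) ^ k := by
          have := congrArg (fun u : Rˣ => (u : R)) hk
          simp only [Units.val_pow_eq_pow_val] at this
          rw [← pow_mul, mul_comm, pow_mul]
          exact this.symm
        rw [mul_pow, hk']
        ring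
  have P_all : ∀ (F : Finset (Fin n)) α, α ∈ V → P (T (∑ s ∈ F, Pi.single s (α s))) := by
    intro F
    induction F using Finset.induction_on with
    | empty => intro α _; rw [Finset.sum_empty, T_zero]; exact h1
    | insert s F hs ih =>
      intro α hα
      rw [Finset.sum_insert hs, T_add]
      exact hPmul _ _ (P_single α hα s) (ih α hα)
  obtain ⟨α, rfl⟩ := T_surj σ₀ hσ₀
  have := P_all Finset.univ α hσ₀
  rwa [Finset.univ_sum_single] at this

end Cfsg.Agent.Components.SuzukiTwo
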