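import Cfsg.Agent.Lib.Components.SmallScn.Basic
import Cfsg.Agent.Lib.Components.SuzukiTwo.Split

/-!
A `2`-group whose involutions are central and permuted transitively, with an automorphism of odd
order acting on them field-like: the layer over the involutions and its adjoint maps.
-/

set_option autoImplicit false
set_option linter.all false

namespace Cfsg.Agent.Components.SuzukiTwo

open Subgroup
open Cfsg.Agent.Components.SmallScn (cm cm_eq_one_iff cm_map cm_mul_left cm_mul_right cm_self)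

universe u v

variable {G : Type u} [Group G]

/-- `W` is the central subgroup of involutions, `Y` is transitive on them and `φ` acts field-like. -/
structure Setup (W : Subgroup G) (Y : Subgroup (MulAut G)) (φ : MulAut G) (R : Type v) [Field R] :
    Prop where
  two : IsPGroup 2 G
  mem_iff : ∀ x : G, x ∈ W ↔ x * x = 1
  central : ∀ w ∈ W, ∀ z : G, z * w = w * z
  trans : ∀ a ∈ W, a ≠ 1 → ∀ b ∈ W, b ≠ 1 → ∃ y ∈ Y, y a = b
  odd : Odd (orderOf φ)
  field : ∃ ρ : W → W, (∀ w : W, (ρ w : G) = φ w) ∧ FieldLike ρ R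

variable {W : Subgroup G} {Y : Subgroup (MulAut G)} {φ : MulAut G} {R : Type v} [Field R]

theorem FieldLike.congr {A : Type*} [Group A] {B : Type*} [Group B] {f : A → A} (hf : FieldLike f R)
    {g : B → B} (θ : B ≃ A) (hθ : ∀ a b, θ (a * b) = θ a * θ b) (hg : ∀ b, θ (g b) = f (θ b)) :
    FieldLike g R := by
  obtain ⟨hfin, hchar, l, e, n, f', hadd, hl, rest⟩ := hf
  exact ⟨hfin, hchar, l, θ.trans e, n, f',
    fun a b => by simp only [Equiv.trans_apply, hθ, hadd],
    fun a => by simp only [Equiv.trans_apply, hg, hl], rest⟩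

namespace Setup

variable (h : Setup W Y φ R)
include h

theorem exp {w : G} (hw : w ∈ W) : w * w = 1 := (h.mem_iff w).mp hw

theorem inv_eq {w : G} (hw : w ∈ W) : w⁻¹ = w := inv_eq_of_mul_eq_one_right (h.exp hw)

theorem map_mem (a : MulAut G) {w : G} (hw : w ∈ W) : a w ∈ W := by
  rw [h.mem_iff, ← map_mul, h.exp hw, map_one]

theorem W_normal : W.Normal :=
  ⟨fun w hw g => by rw [h.central w hw g, mul_inv_cancel_right]; exact hw⟩

theorem card_W : 4 ≤ Nat.card W := by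
  obtain ⟨ρ, -, hfin, -, l, e, n, f, -, -, hn, hn2, -⟩ := h.field
  rw [Nat.card_congr e, hn]
  calc 4 = 2 ^ 2 := by norm_num
    _ ≤ _ := Nat.pow_le_pow_right (by norm_num) hn2

theorem phi_move : ∃ w ∈ W, φ w ≠ w := by
  obtain ⟨ρ, hρ, hfin, -, l, e, n, f, -, hl, hn, hn2, -, -, hgen⟩ := h.field
  refine ⟨(e.symm 1 : W), SetLike.coe_mem _, fun hc => ?_⟩
  have h1 : ρ (e.symm 1) = e.symm 1 := Subtype.ext (by rw [hρ, hc])
  have h2 := congrArg e h1
  rw [hl, e.apply_symm_apply, mul_one] at h2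
  have := hgen 1 (by omega) (by rw [h2, one_pow])
  omega

/-- Powers of `φ` moving `W` fix no involution. -/
theorem fpf_pow (m : ℕ) (hm : ∃ a ∈ W, (φ ^ m) a ≠ a) {w : G} (hw : w ∈ W)
    (hfix : (φ ^ m) w = w) : w = 1 := by
  obtain ⟨ρ, hρ, hfin, -, l, e, n, f, hadd, hl, -⟩ := h.field
  obtain ⟨a, ha, ham⟩ := hm
  have key : ∀ k : ℕ, ∀ v : W, ((ρ^[k] v : W) : G) = (φ ^ k) v ∧ e (ρ^[k] v) = (l : R) ^ k * e v := by
    intro k
    induction k with
    | zero => intro v; simp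
    | succ k ih =>
      intro v
      rw [Function.iterate_succ_apply', hρ, (ih v).1, hl, (ih v).2]
      exact ⟨by rw [pow_succ' φ]; rfl, by ring⟩
  have he1 : e 1 = 0 := by
    have h' := hadd 1 1
    rw [one_mul] at h'
    exact left_eq_add.mp h'
  have hne : (l : R) ^ m ≠ 1 := fun hc => ham (by
    have h1 : ρ^[m] ⟨a, ha⟩ = ⟨a, ha⟩ := e.injective (by rw [(key m _).2, hc, one_mul])
    rw [← (key m ⟨a, ha⟩).1, h1])
  have h2 : e (ρ^[m] ⟨w, hw⟩) = e ⟨w, hw⟩ := congrArg e (Subtype.ext (by rw [(key m _).1]; exact hfix))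
  rw [(key m _).2] at h2
  have h3 : e ⟨w, hw⟩ = e 1 := by
    rw [he1]
    by_contra hz
    exact hne ((mul_eq_right₀ hz).mp h2)
  exact congrArg Subtype.val (e.injective h3)

omit h in
/-- The elements squaring into `W` and central modulo `W`. -/
def K (h : Setup W Y φ R) : Subgroup G where
  carrier := {x | x * x ∈ W ∧ ∀ y : G, cm y x ∈ W}
  one_mem' := ⟨by simpa using one_mem W, fun y => by simpa [cm] using one_mem W⟩
  mul_mem' := fun {a b} ha hb => ⟨by
    have e : a * b * (a * b) = cm b a * (a * a) * (b * b) := by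
      have hc := h.central _ (ha.2 b)
      calc a * b * (a * b) = a * (cm b a * (a * b)) * b := by simp only [cm]; group
        _ = cm b a * (a * (a * b) * b) := by rw [← mul_assoc a (cm b a), hc a]; group
        _ = cm b a * (a * a) * (b * b) := by group
    rw [e]
    exact mul_mem (mul_mem (ha.2 b) ha.1) hb.1, fun y => by
    rw [cm_mul_right (h.central _ (hb.2 y))]
    exact mul_mem (ha.2 y) (hb.2 y)⟩
  inv_mem' := fun {a} ha => ⟨by
    rw [show a⁻¹ * a⁻¹ = (a * a)⁻¹ by group]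
    exact inv_mem ha.1, fun y => by
    have hc := h.central _ (inv_mem (ha.2 y)) a⁻¹
    rw [show cm y a⁻¹ = a⁻¹ * (cm y a)⁻¹ * a by simp only [cm]; group, hc, inv_mul_cancel_right]
    exact inv_mem (ha.2 y)⟩

theorem W_le_K : W ≤ h.K := fun w hw => ⟨by rw [h.exp hw]; exact one_mem W,
  fun y => by rw [cm_eq_one_iff.mpr (h.central w hw y)]; exact one_mem W⟩

theorem K_normal : h.K.Normal := ⟨fun x hx g => by
  have e : g * x * g⁻¹ = cm g x * x := by simp only [cm]; group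
  rw [e]
  exact mul_mem (h.W_le_K (hx.2 g)) hx⟩

theorem K_map (a : MulAut G) {x : G} (hx : x ∈ h.K) : a x ∈ h.K := by
  refine ⟨by rw [← map_mul]; exact h.map_mem a hx.1, fun y => ?_⟩
  rw [← a.apply_symm_apply y, ← cm_map a]
  exact h.map_mem a (hx.2 _)

theorem step [Finite G] {N : Subgroup G} [N.Normal] (hWN : W < N) : ∃ x ∈ N, x ∈ h.K ∧ x ∉ W := by
  haveI : Fact (Nat.Prime 2) := ⟨Nat.prime_two⟩
  haveI := h.W_normal
  obtain ⟨x, hxN, hxW, hx2, hxg⟩ := Cfsg.Agent.PGroups.AbelianNormal.exists_step h.two hWN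
  exact ⟨x, hxN, ⟨by rwa [pow_two] at hx2, hxg⟩, hxW⟩

theorem eq_top_of_K_le [Finite G] (hKW : h.K ≤ W) : W = ⊤ := by
  by_contra hne
  obtain ⟨x, -, hxK, hxW⟩ := h.step (N := ⊤) (lt_top_iff_ne_top.mpr hne)
  exact hxW (hKW hxK)

/-- Squaring maps a non-trivial layer onto `W`. -/
theorem sq_surj (hKW : ¬ h.K ≤ W) {w : G} (hw : w ∈ W) : ∃ k ∈ h.K, k * k = w := by
  by_cases h1 : w = 1
  · exact ⟨1, one_mem _, by rw [h1, one_mul]⟩
  obtain ⟨k, hk, hkW⟩ := SetLike.not_le_iff_exists.mp hKW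
  obtain ⟨y, -, hy⟩ := h.trans _ hk.1 (fun e => hkW ((h.mem_iff k).mpr e)) w hw h1
  exact ⟨y k, h.K_map y hk, by rw [← map_mul, hy]⟩

theorem mul_inv_mem {a b : G} (hcomm : a * b = b * a) (hsq : a * a = b * b) : a * b⁻¹ ∈ W := by
  rw [h.mem_iff]
  calc a * b⁻¹ * (a * b⁻¹) = a * (b⁻¹ * a) * b⁻¹ := by group
    _ = a * (a * b⁻¹) * b⁻¹ := by
      rw [show b⁻¹ * a = a * b⁻¹ by rw [inv_mul_eq_iff_eq_mul, ← mul_assoc, ← hcomm, mul_inv_cancel_right]]
    _ = a * a * (b * b)⁻¹ := by group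
    _ = 1 := by rw [hsq, mul_inv_cancel]

theorem sq_center {x k : G} (hk : k ∈ h.K) : cm (x * x) k = 1 := by
  rw [cm_mul_left (h.central _ (hk.2 x))]
  exact h.exp (hk.2 x)

theorem root_pow_mem {c : G} (hc : c ∉ W) : ∃ i : ℕ, c ^ 2 ^ i ∉ W ∧ c ^ 2 ^ (i + 1) ∈ W := by
  classical
  obtain ⟨N, hN⟩ := h.two c
  have hex : ∃ j, c ^ 2 ^ j ∈ W := ⟨N, by rw [hN]; exact one_mem W⟩
  have hf := Nat.find_spec hex
  obtain ⟨i, hi⟩ : ∃ i, Nat.find hex = i + 1 :=
    Nat.exists_eq_succ_of_ne_zero fun e => hc (by simpa [e] using hf)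
  exact ⟨i, Nat.find_min hex (by omega), hi ▸ hf⟩

section Abelian

variable (hKW : ¬ h.K ≤ W) (hab : ∀ a ∈ h.K, ∀ b ∈ h.K, a * b = b * a)

omit h in
/-- A square root in the layer. -/
noncomputable def root (h : Setup W Y φ R) (hKW : ¬ h.K ≤ W) (w : W) : G :=
  Classical.choose (h.sq_surj hKW w.2)

omit h in
theorem root_spec (h : Setup W Y φ R) (hKW : ¬ h.K ≤ W) (w : W) :
    h.root hKW w ∈ h.K ∧ h.root hKW w * h.root hKW w = w :=
  Classical.choose_spec (h.sq_surj hKW w.2)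

omit h in
/-- The map `k² ↦ [x, k]` on `W`. -/
noncomputable def adj (h : Setup W Y φ R) (hKW : ¬ h.K ≤ W) (x : G) (w : W) : W :=
  ⟨cm x (h.root hKW w), (h.root_spec hKW w).1.2 x⟩

include hab

theorem adj_val (x : G) {w : W} {k : G} (hk : k ∈ h.K) (hkw : k * k = w) :
    (h.adj hKW x w : G) = cm x k := by
  obtain ⟨hr, hrw⟩ := h.root_spec hKW w
  have hm := h.mul_inv_mem (hab _ hr _ hk) (hrw.trans hkw.symm)
  show cm x (h.root hKW w) = cm x k
  conv_lhs => rw [show h.root hKW w = h.root hKW w * k⁻¹ * k by group]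
  rw [cm_mul_right (h.central _ (hk.2 x)), cm_eq_one_iff.mpr (h.central _ hm x), one_mul]

theorem adj_hom (x : G) (a b : W) : h.adj hKW x (a * b) = h.adj hKW x a * h.adj hKW x b := by
  obtain ⟨ha, haw⟩ := h.root_spec hKW a
  obtain ⟨hb, hbw⟩ := h.root_spec hKW b
  refine Subtype.ext ?_
  rw [h.adj_val hKW hab x (mul_mem ha hb) (by
    rw [coe_mul, ← haw, ← hbw, mul_assoc, ← mul_assoc (h.root hKW b), ← hab _ ha _ hb]; group),
    cm_mul_right (h.central _ (hb.2 x)), coe_mul]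
  rfl

theorem adj_mul (x y : G) : h.adj hKW (x * y) = h.adj hKW x * h.adj hKW y := by
  funext w
  refine Subtype.ext ?_
  obtain ⟨hr, hrw⟩ := h.root_spec hKW w
  show cm (x * y) (h.root hKW w) = _
  rw [cm_mul_left (h.central _ (hr.2 y))]
  rfl

theorem adj_eq_one {x : G} : h.adj hKW x = 1 ↔ x ∈ centralizer (h.K : Set G) := by
  rw [mem_centralizer_iff]
  constructor
  · intro hx k hk
    have h1 := congrArg (fun f : W → W => (f ⟨k * k, hk.1⟩ : G)) hx
    rw [h.adj_val hKW hab x hk rfl] at h1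
    exact (cm_eq_one_iff.mp h1).symm
  · intro hx
    funext w
    exact Subtype.ext (cm_eq_one_iff.mpr (hx _ (h.root_spec hKW w).1).symm)

theorem adj_map (a : MulAut G) (x : G) (w : W) :
    (h.adj hKW (a x) ⟨a w, h.map_mem a w.2⟩ : G) = a (h.adj hKW x w : G) := by
  obtain ⟨hr, hrw⟩ := h.root_spec hKW w
  rw [h.adj_val hKW hab _ (h.K_map a hr) (by rw [← map_mul, hrw]), ← cm_map a]
  rfl

include hKW in
/-- An element of the centralizer of the layer squaring into `W` lies in the layer. -/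
theorem mem_K {z : G} (hz : z ∈ centralizer (h.K : Set G)) (h2 : z * z ∈ W) : z ∈ h.K := by
  obtain ⟨k, hk, hkz⟩ := h.sq_surj hKW h2
  have := h.mul_inv_mem ((mem_centralizer_iff.mp hz k hk).symm) hkz.symm
  rw [show z = z * k⁻¹ * k by group]
  exact mul_mem (h.W_le_K this) hk

include hKW in
theorem exists_layer {c : G} (hc : c ∈ centralizer (h.K : Set G)) (hcW : c ∉ W) :
    ∃ i : ℕ, c ^ 2 ^ i ∈ h.K ∧ c ^ 2 ^ i ∉ W := by
  obtain ⟨i, hi, hi'⟩ := h.root_pow_mem hcW
  refine ⟨i, h.mem_K hKW hab (pow_mem hc _) ?_, hi⟩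
  rwa [← pow_two, ← pow_mul, ← pow_succ]

end Abelian

end Setup

end Cfsg.Agent.Components.SuzukiTwo
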